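import Cfsg.Agent.Lib.ToddCox.Fi22_3510.Data0
set_option autoImplicit false
set_option maxRecDepth 100000
namespace Cfsg.Agent.Lib.ToddCox.Fi22_3510
def eT_0_2 (j : ℕ) : ℕ := bif Nat.blt j 1 then E_0 else E_1
def eT_3_5 (j : ℕ) : ℕ := bif Nat.blt j 4 then E_3 else E_4
def eT_2_5 (j : ℕ) : ℕ := bif Nat.blt j 3 then E_2 else (eT_3_5 j)
def eT_0_5 (j : ℕ) : ℕ := bif Nat.blt j 2 then (eT_0_2 j) else (eT_2_5 j)
def eT_5_7 (j : ℕ) : ℕ := bif Nat.blt j 6 then E_5 else E_6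
def eT_8_10 (j : ℕ) : ℕ := bif Nat.blt j 9 then E_8 else E_9
def eT_7_10 (j : ℕ) : ℕ := bif Nat.blt j 8 then E_7 else (eT_8_10 j)
def eT_5_10 (j : ℕ) : ℕ := bif Nat.blt j 7 then (eT_5_7 j) else (eT_7_10 j)
def eT_0_10 (j : ℕ) : ℕ := bif Nat.blt j 5 then (eT_0_5 j) else (eT_5_10 j)
def eT_10_12 (j : ℕ) : ℕ := bif Nat.blt j 11 then E_10 else E_11
def eT_13_15 (j : ℕ) : ℕ := bif Nat.blt j 14 then E_13 else E_14
def eT_12_15 (j : ℕ) : ℕ := bif Nat.blt j 13 then E_12 else (eT_13_15 j)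
def eT_10_15 (j : ℕ) : ℕ := bif Nat.blt j 12 then (eT_10_12 j) else (eT_12_15 j)
def eT_15_17 (j : ℕ) : ℕ := bif Nat.blt j 16 then E_15 else E_16
def eT_18_20 (j : ℕ) : ℕ := bif Nat.blt j 19 then E_18 else E_19
def eT_17_20 (j : ℕ) : ℕ := bif Nat.blt j 18 then E_17 else (eT_18_20 j)
def eT_15_20 (j : ℕ) : ℕ := bif Nat.blt j 17 then (eT_15_17 j) else (eT_17_20 j)
def eT_10_20 (j : ℕ) : ℕ := bif Nat.blt j 15 then (eT_10_15 j) else (eT_15_20 j)
def eT_0_20 (j : ℕ) : ℕ := bif Nat.blt j 10 then (eT_0_10 j) else (eT_10_20 j)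
def eT_20_22 (j : ℕ) : ℕ := bif Nat.blt j 21 then E_20 else E_21
def eT_23_25 (j : ℕ) : ℕ := bif Nat.blt j 24 then E_23 else E_24
def eT_22_25 (j : ℕ) : ℕ := bif Nat.blt j 23 then E_22 else (eT_23_25 j)
def eT_20_25 (j : ℕ) : ℕ := bif Nat.blt j 22 then (eT_20_22 j) else (eT_22_25 j)
def eT_25_27 (j : ℕ) : ℕ := bif Nat.blt j 26 then E_25 else E_26
def eT_28_30 (j : ℕ) : ℕ := bif Nat.blt j 29 then E_28 else E_29
def eT_27_30 (j : ℕ) : ℕ := bif Nat.blt j 28 then E_27 else (eT_28_30 j)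
def eT_25_30 (j : ℕ) : ℕ := bif Nat.blt j 27 then (eT_25_27 j) else (eT_27_30 j)
def eT_20_30 (j : ℕ) : ℕ := bif Nat.blt j 25 then (eT_20_25 j) else (eT_25_30 j)
def eT_30_32 (j : ℕ) : ℕ := bif Nat.blt j 31 then E_30 else E_31
def eT_33_35 (j : ℕ) : ℕ := bif Nat.blt j 34 then E_33 else E_34
def eT_32_35 (j : ℕ) : ℕ := bif Nat.blt j 33 then E_32 else (eT_33_35 j)
def eT_30_35 (j : ℕ) : ℕ := bif Nat.blt j 32 then (eT_30_32 j) else (eT_32_35 j)
def eT_36_38 (j : ℕ) : ℕ := bif Nat.blt j 37 then E_36 else E_37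
def eT_35_38 (j : ℕ) : ℕ := bif Nat.blt j 36 then E_35 else (eT_36_38 j)
def eT_39_41 (j : ℕ) : ℕ := bif Nat.blt j 40 then E_39 else E_40
def eT_38_41 (j : ℕ) : ℕ := bif Nat.blt j 39 then E_38 else (eT_39_41 j)
def eT_35_41 (j : ℕ) : ℕ := bif Nat.blt j 38 then (eT_35_38 j) else (eT_38_41 j)
def eT_30_41 (j : ℕ) : ℕ := bif Nat.blt j 35 then (eT_30_35 j) else (eT_35_41 j)
def eT_20_41 (j : ℕ) : ℕ := bif Nat.blt j 30 then (eT_20_30 j) else (eT_30_41 j)
def eT_0_41 (j : ℕ) : ℕ := bif Nat.blt j 20 then (eT_0_20 j) else (eT_20_41 j)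
def eT_41_43 (j : ℕ) : ℕ := bif Nat.blt j 42 then E_41 else E_42
def eT_44_46 (j : ℕ) : ℕ := bif Nat.blt j 45 then E_44 else E_45
def eT_43_46 (j : ℕ) : ℕ := bif Nat.blt j 44 then E_43 else (eT_44_46 j)
def eT_41_46 (j : ℕ) : ℕ := bif Nat.blt j 43 then (eT_41_43 j) else (eT_43_46 j)
def eT_46_48 (j : ℕ) : ℕ := bif Nat.blt j 47 then E_46 else E_47
def eT_49_51 (j : ℕ) : ℕ := bif Nat.blt j 50 then E_49 else E_50
def eT_48_51 (j : ℕ) : ℕ := bif Nat.blt j 49 then E_48 else (eT_49_51 j)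
def eT_46_51 (j : ℕ) : ℕ := bif Nat.blt j 48 then (eT_46_48 j) else (eT_48_51 j)
def eT_41_51 (j : ℕ) : ℕ := bif Nat.blt j 46 then (eT_41_46 j) else (eT_46_51 j)
def eT_51_53 (j : ℕ) : ℕ := bif Nat.blt j 52 then E_51 else E_52
def eT_54_56 (j : ℕ) : ℕ := bif Nat.blt j 55 then E_54 else E_55
def eT_53_56 (j : ℕ) : ℕ := bif Nat.blt j 54 then E_53 else (eT_54_56 j)
def eT_51_56 (j : ℕ) : ℕ := bif Nat.blt j 53 then (eT_51_53 j) else (eT_53_56 j)
def eT_56_58 (j : ℕ) : ℕ := bif Nat.blt j 57 then E_56 else E_57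
def eT_59_61 (j : ℕ) : ℕ := bif Nat.blt j 60 then E_59 else E_60
def eT_58_61 (j : ℕ) : ℕ := bif Nat.blt j 59 then E_58 else (eT_59_61 j)
def eT_56_61 (j : ℕ) : ℕ := bif Nat.blt j 58 then (eT_56_58 j) else (eT_58_61 j)
def eT_51_61 (j : ℕ) : ℕ := bif Nat.blt j 56 then (eT_51_56 j) else (eT_56_61 j)
def eT_41_61 (j : ℕ) : ℕ := bif Nat.blt j 51 then (eT_41_51 j) else (eT_51_61 j)
def eT_61_63 (j : ℕ) : ℕ := bif Nat.blt j 62 then E_61 else E_62
def eT_64_66 (j : ℕ) : ℕ := bif Nat.blt j 65 then E_64 else E_65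
def eT_63_66 (j : ℕ) : ℕ := bif Nat.blt j 64 then E_63 else (eT_64_66 j)
def eT_61_66 (j : ℕ) : ℕ := bif Nat.blt j 63 then (eT_61_63 j) else (eT_63_66 j)
def eT_66_68 (j : ℕ) : ℕ := bif Nat.blt j 67 then E_66 else E_67
def eT_69_71 (j : ℕ) : ℕ := bif Nat.blt j 70 then E_69 else E_70
def eT_68_71 (j : ℕ) : ℕ := bif Nat.blt j 69 then E_68 else (eT_69_71 j)
def eT_66_71 (j : ℕ) : ℕ := bif Nat.blt j 68 then (eT_66_68 j) else (eT_68_71 j)
def eT_61_71 (j : ℕ) : ℕ := bif Nat.blt j 66 then (eT_61_66 j) else (eT_66_71 j)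
def eT_71_73 (j : ℕ) : ℕ := bif Nat.blt j 72 then E_71 else E_72
def eT_74_76 (j : ℕ) : ℕ := bif Nat.blt j 75 then E_74 else E_75
def eT_73_76 (j : ℕ) : ℕ := bif Nat.blt j 74 then E_73 else (eT_74_76 j)
def eT_71_76 (j : ℕ) : ℕ := bif Nat.blt j 73 then (eT_71_73 j) else (eT_73_76 j)
def eT_77_79 (j : ℕ) : ℕ := bif Nat.blt j 78 then E_77 else E_78
def eT_76_79 (j : ℕ) : ℕ := bif Nat.blt j 77 then E_76 else (eT_77_79 j)
def eT_80_82 (j : ℕ) : ℕ := bif Nat.blt j 81 then E_80 else E_81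
def eT_79_82 (j : ℕ) : ℕ := bif Nat.blt j 80 then E_79 else (eT_80_82 j)
def eT_76_82 (j : ℕ) : ℕ := bif Nat.blt j 79 then (eT_76_79 j) else (eT_79_82 j)
def eT_71_82 (j : ℕ) : ℕ := bif Nat.blt j 76 then (eT_71_76 j) else (eT_76_82 j)
def eT_61_82 (j : ℕ) : ℕ := bif Nat.blt j 71 then (eT_61_71 j) else (eT_71_82 j)
def eT_41_82 (j : ℕ) : ℕ := bif Nat.blt j 61 then (eT_41_61 j) else (eT_61_82 j)
def eT_0_82 (j : ℕ) : ℕ := bif Nat.blt j 41 then (eT_0_41 j) else (eT_41_82 j)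
def eT_82_84 (j : ℕ) : ℕ := bif Nat.blt j 83 then E_82 else E_83
def eT_85_87 (j : ℕ) : ℕ := bif Nat.blt j 86 then E_85 else E_86
def eT_84_87 (j : ℕ) : ℕ := bif Nat.blt j 85 then E_84 else (eT_85_87 j)
def eT_82_87 (j : ℕ) : ℕ := bif Nat.blt j 84 then (eT_82_84 j) else (eT_84_87 j)
def eT_87_89 (j : ℕ) : ℕ := bif Nat.blt j 88 then E_87 else E_88
def eT_90_92 (j : ℕ) : ℕ := bif Nat.blt j 91 then E_90 else E_91
def eT_89_92 (j : ℕ) : ℕ := bif Nat.blt j 90 then E_89 else (eT_90_92 j)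
def eT_87_92 (j : ℕ) : ℕ := bif Nat.blt j 89 then (eT_87_89 j) else (eT_89_92 j)
def eT_82_92 (j : ℕ) : ℕ := bif Nat.blt j 87 then (eT_82_87 j) else (eT_87_92 j)
def eT_92_94 (j : ℕ) : ℕ := bif Nat.blt j 93 then E_92 else E_93
def eT_95_97 (j : ℕ) : ℕ := bif Nat.blt j 96 then E_95 else E_96
def eT_94_97 (j : ℕ) : ℕ := bif Nat.blt j 95 then E_94 else (eT_95_97 j)
def eT_92_97 (j : ℕ) : ℕ := bif Nat.blt j 94 then (eT_92_94 j) else (eT_94_97 j)
def eT_97_99 (j : ℕ) : ℕ := bif Nat.blt j 98 then E_97 else E_98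
def eT_100_102 (j : ℕ) : ℕ := bif Nat.blt j 101 then E_100 else E_101
def eT_99_102 (j : ℕ) : ℕ := bif Nat.blt j 100 then E_99 else (eT_100_102 j)
def eT_97_102 (j : ℕ) : ℕ := bif Nat.blt j 99 then (eT_97_99 j) else (eT_99_102 j)
def eT_92_102 (j : ℕ) : ℕ := bif Nat.blt j 97 then (eT_92_97 j) else (eT_97_102 j)
def eT_82_102 (j : ℕ) : ℕ := bif Nat.blt j 92 then (eT_82_92 j) else (eT_92_102 j)
def eT_102_104 (j : ℕ) : ℕ := bif Nat.blt j 103 then E_102 else E_103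
def eT_105_107 (j : ℕ) : ℕ := bif Nat.blt j 106 then E_105 else E_106
def eT_104_107 (j : ℕ) : ℕ := bif Nat.blt j 105 then E_104 else (eT_105_107 j)
def eT_102_107 (j : ℕ) : ℕ := bif Nat.blt j 104 then (eT_102_104 j) else (eT_104_107 j)
def eT_107_109 (j : ℕ) : ℕ := bif Nat.blt j 108 then E_107 else E_108
def eT_110_112 (j : ℕ) : ℕ := bif Nat.blt j 111 then E_110 else E_111
def eT_109_112 (j : ℕ) : ℕ := bif Nat.blt j 110 then E_109 else (eT_110_112 j)
def eT_107_112 (j : ℕ) : ℕ := bif Nat.blt j 109 then (eT_107_109 j) else (eT_109_112 j)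
def eT_102_112 (j : ℕ) : ℕ := bif Nat.blt j 107 then (eT_102_107 j) else (eT_107_112 j)
def eT_112_114 (j : ℕ) : ℕ := bif Nat.blt j 113 then E_112 else E_113
def eT_115_117 (j : ℕ) : ℕ := bif Nat.blt j 116 then E_115 else E_116
def eT_114_117 (j : ℕ) : ℕ := bif Nat.blt j 115 then E_114 else (eT_115_117 j)
def eT_112_117 (j : ℕ) : ℕ := bif Nat.blt j 114 then (eT_112_114 j) else (eT_114_117 j)
def eT_118_120 (j : ℕ) : ℕ := bif Nat.blt j 119 then E_118 else E_119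
def eT_117_120 (j : ℕ) : ℕ := bif Nat.blt j 118 then E_117 else (eT_118_120 j)
def eT_121_123 (j : ℕ) : ℕ := bif Nat.blt j 122 then E_121 else E_122
def eT_120_123 (j : ℕ) : ℕ := bif Nat.blt j 121 then E_120 else (eT_121_123 j)
def eT_117_123 (j : ℕ) : ℕ := bif Nat.blt j 120 then (eT_117_120 j) else (eT_120_123 j)
def eT_112_123 (j : ℕ) : ℕ := bif Nat.blt j 117 then (eT_112_117 j) else (eT_117_123 j)
def eT_102_123 (j : ℕ) : ℕ := bif Nat.blt j 112 then (eT_102_112 j) else (eT_112_123 j)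
def eT_82_123 (j : ℕ) : ℕ := bif Nat.blt j 102 then (eT_82_102 j) else (eT_102_123 j)
def eT_123_125 (j : ℕ) : ℕ := bif Nat.blt j 124 then E_123 else E_124
def eT_126_128 (j : ℕ) : ℕ := bif Nat.blt j 127 then E_126 else E_127
def eT_125_128 (j : ℕ) : ℕ := bif Nat.blt j 126 then E_125 else (eT_126_128 j)
def eT_123_128 (j : ℕ) : ℕ := bif Nat.blt j 125 then (eT_123_125 j) else (eT_125_128 j)
def eT_128_130 (j : ℕ) : ℕ := bif Nat.blt j 129 then E_128 else E_129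
def eT_131_133 (j : ℕ) : ℕ := bif Nat.blt j 132 then E_131 else E_132
def eT_130_133 (j : ℕ) : ℕ := bif Nat.blt j 131 then E_130 else (eT_131_133 j)
def eT_128_133 (j : ℕ) : ℕ := bif Nat.blt j 130 then (eT_128_130 j) else (eT_130_133 j)
def eT_123_133 (j : ℕ) : ℕ := bif Nat.blt j 128 then (eT_123_128 j) else (eT_128_133 j)
def eT_133_135 (j : ℕ) : ℕ := bif Nat.blt j 134 then E_133 else E_134
def eT_136_138 (j : ℕ) : ℕ := bif Nat.blt j 137 then E_136 else E_137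
def eT_135_138 (j : ℕ) : ℕ := bif Nat.blt j 136 then E_135 else (eT_136_138 j)
def eT_133_138 (j : ℕ) : ℕ := bif Nat.blt j 135 then (eT_133_135 j) else (eT_135_138 j)
def eT_139_141 (j : ℕ) : ℕ := bif Nat.blt j 140 then E_139 else E_140
def eT_138_141 (j : ℕ) : ℕ := bif Nat.blt j 139 then E_138 else (eT_139_141 j)
def eT_142_144 (j : ℕ) : ℕ := bif Nat.blt j 143 then E_142 else E_143
def eT_141_144 (j : ℕ) : ℕ := bif Nat.blt j 142 then E_141 else (eT_142_144 j)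
def eT_138_144 (j : ℕ) : ℕ := bif Nat.blt j 141 then (eT_138_141 j) else (eT_141_144 j)
def eT_133_144 (j : ℕ) : ℕ := bif Nat.blt j 138 then (eT_133_138 j) else (eT_138_144 j)
def eT_123_144 (j : ℕ) : ℕ := bif Nat.blt j 133 then (eT_123_133 j) else (eT_133_144 j)
def eT_144_146 (j : ℕ) : ℕ := bif Nat.blt j 145 then E_144 else E_145
def eT_147_149 (j : ℕ) : ℕ := bif Nat.blt j 148 then E_147 else E_148
def eT_146_149 (j : ℕ) : ℕ := bif Nat.blt j 147 then E_146 else (eT_147_149 j)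
def eT_144_149 (j : ℕ) : ℕ := bif Nat.blt j 146 then (eT_144_146 j) else (eT_146_149 j)
def eT_149_151 (j : ℕ) : ℕ := bif Nat.blt j 150 then E_149 else E_150
def eT_152_154 (j : ℕ) : ℕ := bif Nat.blt j 153 then E_152 else E_153
def eT_151_154 (j : ℕ) : ℕ := bif Nat.blt j 152 then E_151 else (eT_152_154 j)
def eT_149_154 (j : ℕ) : ℕ := bif Nat.blt j 151 then (eT_149_151 j) else (eT_151_154 j)
def eT_144_154 (j : ℕ) : ℕ := bif Nat.blt j 149 then (eT_144_149 j) else (eT_149_154 j)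
def eT_154_156 (j : ℕ) : ℕ := bif Nat.blt j 155 then E_154 else E_155
def eT_157_159 (j : ℕ) : ℕ := bif Nat.blt j 158 then E_157 else E_158
def eT_156_159 (j : ℕ) : ℕ := bif Nat.blt j 157 then E_156 else (eT_157_159 j)
def eT_154_159 (j : ℕ) : ℕ := bif Nat.blt j 156 then (eT_154_156 j) else (eT_156_159 j)
def eT_160_162 (j : ℕ) : ℕ := bif Nat.blt j 161 then E_160 else E_161
def eT_159_162 (j : ℕ) : ℕ := bif Nat.blt j 160 then E_159 else (eT_160_162 j)
def eT_163_165 (j : ℕ) : ℕ := bif Nat.blt j 164 then E_163 else E_164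
def eT_162_165 (j : ℕ) : ℕ := bif Nat.blt j 163 then E_162 else (eT_163_165 j)
def eT_159_165 (j : ℕ) : ℕ := bif Nat.blt j 162 then (eT_159_162 j) else (eT_162_165 j)
def eT_154_165 (j : ℕ) : ℕ := bif Nat.blt j 159 then (eT_154_159 j) else (eT_159_165 j)
def eT_144_165 (j : ℕ) : ℕ := bif Nat.blt j 154 then (eT_144_154 j) else (eT_154_165 j)
def eT_123_165 (j : ℕ) : ℕ := bif Nat.blt j 144 then (eT_123_144 j) else (eT_144_165 j)
def eT_82_165 (j : ℕ) : ℕ := bif Nat.blt j 123 then (eT_82_123 j) else (eT_123_165 j)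
def eT_0_165 (j : ℕ) : ℕ := bif Nat.blt j 82 then (eT_0_82 j) else (eT_82_165 j)
def eT_165_167 (j : ℕ) : ℕ := bif Nat.blt j 166 then E_165 else E_166
def eT_168_170 (j : ℕ) : ℕ := bif Nat.blt j 169 then E_168 else E_169
def eT_167_170 (j : ℕ) : ℕ := bif Nat.blt j 168 then E_167 else (eT_168_170 j)
def eT_165_170 (j : ℕ) : ℕ := bif Nat.blt j 167 then (eT_165_167 j) else (eT_167_170 j)
def eT_170_172 (j : ℕ) : ℕ := bif Nat.blt j 171 then E_170 else E_171
def eT_173_175 (j : ℕ) : ℕ := bif Nat.blt j 174 then E_173 else E_174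
def eT_172_175 (j : ℕ) : ℕ := bif Nat.blt j 173 then E_172 else (eT_173_175 j)
def eT_170_175 (j : ℕ) : ℕ := bif Nat.blt j 172 then (eT_170_172 j) else (eT_172_175 j)
def eT_165_175 (j : ℕ) : ℕ := bif Nat.blt j 170 then (eT_165_170 j) else (eT_170_175 j)
def eT_175_177 (j : ℕ) : ℕ := bif Nat.blt j 176 then E_175 else E_176
def eT_178_180 (j : ℕ) : ℕ := bif Nat.blt j 179 then E_178 else E_179
def eT_177_180 (j : ℕ) : ℕ := bif Nat.blt j 178 then E_177 else (eT_178_180 j)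
def eT_175_180 (j : ℕ) : ℕ := bif Nat.blt j 177 then (eT_175_177 j) else (eT_177_180 j)
def eT_180_182 (j : ℕ) : ℕ := bif Nat.blt j 181 then E_180 else E_181
def eT_183_185 (j : ℕ) : ℕ := bif Nat.blt j 184 then E_183 else E_184
def eT_182_185 (j : ℕ) : ℕ := bif Nat.blt j 183 then E_182 else (eT_183_185 j)
def eT_180_185 (j : ℕ) : ℕ := bif Nat.blt j 182 then (eT_180_182 j) else (eT_182_185 j)
def eT_175_185 (j : ℕ) : ℕ := bif Nat.blt j 180 then (eT_175_180 j) else (eT_180_185 j)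
def eT_165_185 (j : ℕ) : ℕ := bif Nat.blt j 175 then (eT_165_175 j) else (eT_175_185 j)
def eT_185_187 (j : ℕ) : ℕ := bif Nat.blt j 186 then E_185 else E_186
def eT_188_190 (j : ℕ) : ℕ := bif Nat.blt j 189 then E_188 else E_189
def eT_187_190 (j : ℕ) : ℕ := bif Nat.blt j 188 then E_187 else (eT_188_190 j)
def eT_185_190 (j : ℕ) : ℕ := bif Nat.blt j 187 then (eT_185_187 j) else (eT_187_190 j)
def eT_190_192 (j : ℕ) : ℕ := bif Nat.blt j 191 then E_190 else E_191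
def eT_193_195 (j : ℕ) : ℕ := bif Nat.blt j 194 then E_193 else E_194
def eT_192_195 (j : ℕ) : ℕ := bif Nat.blt j 193 then E_192 else (eT_193_195 j)
def eT_190_195 (j : ℕ) : ℕ := bif Nat.blt j 192 then (eT_190_192 j) else (eT_192_195 j)
def eT_185_195 (j : ℕ) : ℕ := bif Nat.blt j 190 then (eT_185_190 j) else (eT_190_195 j)
def eT_195_197 (j : ℕ) : ℕ := bif Nat.blt j 196 then E_195 else E_196
def eT_198_200 (j : ℕ) : ℕ := bif Nat.blt j 199 then E_198 else E_199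
def eT_197_200 (j : ℕ) : ℕ := bif Nat.blt j 198 then E_197 else (eT_198_200 j)
def eT_195_200 (j : ℕ) : ℕ := bif Nat.blt j 197 then (eT_195_197 j) else (eT_197_200 j)
def eT_201_203 (j : ℕ) : ℕ := bif Nat.blt j 202 then E_201 else E_202
def eT_200_203 (j : ℕ) : ℕ := bif Nat.blt j 201 then E_200 else (eT_201_203 j)
def eT_204_206 (j : ℕ) : ℕ := bif Nat.blt j 205 then E_204 else E_205
def eT_203_206 (j : ℕ) : ℕ := bif Nat.blt j 204 then E_203 else (eT_204_206 j)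
def eT_200_206 (j : ℕ) : ℕ := bif Nat.blt j 203 then (eT_200_203 j) else (eT_203_206 j)
def eT_195_206 (j : ℕ) : ℕ := bif Nat.blt j 200 then (eT_195_200 j) else (eT_200_206 j)
def eT_185_206 (j : ℕ) : ℕ := bif Nat.blt j 195 then (eT_185_195 j) else (eT_195_206 j)
def eT_165_206 (j : ℕ) : ℕ := bif Nat.blt j 185 then (eT_165_185 j) else (eT_185_206 j)
def eT_206_208 (j : ℕ) : ℕ := bif Nat.blt j 207 then E_206 else E_207
def eT_209_211 (j : ℕ) : ℕ := bif Nat.blt j 210 then E_209 else E_210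
def eT_208_211 (j : ℕ) : ℕ := bif Nat.blt j 209 then E_208 else (eT_209_211 j)
def eT_206_211 (j : ℕ) : ℕ := bif Nat.blt j 208 then (eT_206_208 j) else (eT_208_211 j)
def eT_211_213 (j : ℕ) : ℕ := bif Nat.blt j 212 then E_211 else E_212
def eT_214_216 (j : ℕ) : ℕ := bif Nat.blt j 215 then E_214 else E_215
def eT_213_216 (j : ℕ) : ℕ := bif Nat.blt j 214 then E_213 else (eT_214_216 j)
def eT_211_216 (j : ℕ) : ℕ := bif Nat.blt j 213 then (eT_211_213 j) else (eT_213_216 j)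
def eT_206_216 (j : ℕ) : ℕ := bif Nat.blt j 211 then (eT_206_211 j) else (eT_211_216 j)
def eT_216_218 (j : ℕ) : ℕ := bif Nat.blt j 217 then E_216 else E_217
def eT_219_221 (j : ℕ) : ℕ := bif Nat.blt j 220 then E_219 else E_220
def eT_218_221 (j : ℕ) : ℕ := bif Nat.blt j 219 then E_218 else (eT_219_221 j)
def eT_216_221 (j : ℕ) : ℕ := bif Nat.blt j 218 then (eT_216_218 j) else (eT_218_221 j)
def eT_221_223 (j : ℕ) : ℕ := bif Nat.blt j 222 then E_221 else E_222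
def eT_224_226 (j : ℕ) : ℕ := bif Nat.blt j 225 then E_224 else E_225
def eT_223_226 (j : ℕ) : ℕ := bif Nat.blt j 224 then E_223 else (eT_224_226 j)
def eT_221_226 (j : ℕ) : ℕ := bif Nat.blt j 223 then (eT_221_223 j) else (eT_223_226 j)
def eT_216_226 (j : ℕ) : ℕ := bif Nat.blt j 221 then (eT_216_221 j) else (eT_221_226 j)
def eT_206_226 (j : ℕ) : ℕ := bif Nat.blt j 216 then (eT_206_216 j) else (eT_216_226 j)
def eT_226_228 (j : ℕ) : ℕ := bif Nat.blt j 227 then E_226 else E_227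
def eT_229_231 (j : ℕ) : ℕ := bif Nat.blt j 230 then E_229 else E_230
def eT_228_231 (j : ℕ) : ℕ := bif Nat.blt j 229 then E_228 else (eT_229_231 j)
def eT_226_231 (j : ℕ) : ℕ := bif Nat.blt j 228 then (eT_226_228 j) else (eT_228_231 j)
def eT_231_233 (j : ℕ) : ℕ := bif Nat.blt j 232 then E_231 else E_232
def eT_234_236 (j : ℕ) : ℕ := bif Nat.blt j 235 then E_234 else E_235
def eT_233_236 (j : ℕ) : ℕ := bif Nat.blt j 234 then E_233 else (eT_234_236 j)
def eT_231_236 (j : ℕ) : ℕ := bif Nat.blt j 233 then (eT_231_233 j) else (eT_233_236 j)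
def eT_226_236 (j : ℕ) : ℕ := bif Nat.blt j 231 then (eT_226_231 j) else (eT_231_236 j)
def eT_236_238 (j : ℕ) : ℕ := bif Nat.blt j 237 then E_236 else E_237
def eT_239_241 (j : ℕ) : ℕ := bif Nat.blt j 240 then E_239 else E_240
def eT_238_241 (j : ℕ) : ℕ := bif Nat.blt j 239 then E_238 else (eT_239_241 j)
def eT_236_241 (j : ℕ) : ℕ := bif Nat.blt j 238 then (eT_236_238 j) else (eT_238_241 j)
def eT_242_244 (j : ℕ) : ℕ := bif Nat.blt j 243 then E_242 else E_243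
def eT_241_244 (j : ℕ) : ℕ := bif Nat.blt j 242 then E_241 else (eT_242_244 j)
def eT_245_247 (j : ℕ) : ℕ := bif Nat.blt j 246 then E_245 else E_246
def eT_244_247 (j : ℕ) : ℕ := bif Nat.blt j 245 then E_244 else (eT_245_247 j)
def eT_241_247 (j : ℕ) : ℕ := bif Nat.blt j 244 then (eT_241_244 j) else (eT_244_247 j)
def eT_236_247 (j : ℕ) : ℕ := bif Nat.blt j 241 then (eT_236_241 j) else (eT_241_247 j)
def eT_226_247 (j : ℕ) : ℕ := bif Nat.blt j 236 then (eT_226_236 j) else (eT_236_247 j)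
def eT_206_247 (j : ℕ) : ℕ := bif Nat.blt j 226 then (eT_206_226 j) else (eT_226_247 j)
def eT_165_247 (j : ℕ) : ℕ := bif Nat.blt j 206 then (eT_165_206 j) else (eT_206_247 j)
def eT_247_249 (j : ℕ) : ℕ := bif Nat.blt j 248 then E_247 else E_248
def eT_250_252 (j : ℕ) : ℕ := bif Nat.blt j 251 then E_250 else E_251
def eT_249_252 (j : ℕ) : ℕ := bif Nat.blt j 250 then E_249 else (eT_250_252 j)
def eT_247_252 (j : ℕ) : ℕ := bif Nat.blt j 249 then (eT_247_249 j) else (eT_249_252 j)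
def eT_252_254 (j : ℕ) : ℕ := bif Nat.blt j 253 then E_252 else E_253
def eT_255_257 (j : ℕ) : ℕ := bif Nat.blt j 256 then E_255 else E_256
def eT_254_257 (j : ℕ) : ℕ := bif Nat.blt j 255 then E_254 else (eT_255_257 j)
def eT_252_257 (j : ℕ) : ℕ := bif Nat.blt j 254 then (eT_252_254 j) else (eT_254_257 j)
def eT_247_257 (j : ℕ) : ℕ := bif Nat.blt j 252 then (eT_247_252 j) else (eT_252_257 j)
def eT_257_259 (j : ℕ) : ℕ := bif Nat.blt j 258 then E_257 else E_258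
def eT_260_262 (j : ℕ) : ℕ := bif Nat.blt j 261 then E_260 else E_261
def eT_259_262 (j : ℕ) : ℕ := bif Nat.blt j 260 then E_259 else (eT_260_262 j)
def eT_257_262 (j : ℕ) : ℕ := bif Nat.blt j 259 then (eT_257_259 j) else (eT_259_262 j)
def eT_262_264 (j : ℕ) : ℕ := bif Nat.blt j 263 then E_262 else E_263
def eT_265_267 (j : ℕ) : ℕ := bif Nat.blt j 266 then E_265 else E_266
def eT_264_267 (j : ℕ) : ℕ := bif Nat.blt j 265 then E_264 else (eT_265_267 j)
def eT_262_267 (j : ℕ) : ℕ := bif Nat.blt j 264 then (eT_262_264 j) else (eT_264_267 j)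
def eT_257_267 (j : ℕ) : ℕ := bif Nat.blt j 262 then (eT_257_262 j) else (eT_262_267 j)
def eT_247_267 (j : ℕ) : ℕ := bif Nat.blt j 257 then (eT_247_257 j) else (eT_257_267 j)
def eT_267_269 (j : ℕ) : ℕ := bif Nat.blt j 268 then E_267 else E_268
def eT_270_272 (j : ℕ) : ℕ := bif Nat.blt j 271 then E_270 else E_271
def eT_269_272 (j : ℕ) : ℕ := bif Nat.blt j 270 then E_269 else (eT_270_272 j)
def eT_267_272 (j : ℕ) : ℕ := bif Nat.blt j 269 then (eT_267_269 j) else (eT_269_272 j)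
def eT_272_274 (j : ℕ) : ℕ := bif Nat.blt j 273 then E_272 else E_273
def eT_275_277 (j : ℕ) : ℕ := bif Nat.blt j 276 then E_275 else E_276
def eT_274_277 (j : ℕ) : ℕ := bif Nat.blt j 275 then E_274 else (eT_275_277 j)
def eT_272_277 (j : ℕ) : ℕ := bif Nat.blt j 274 then (eT_272_274 j) else (eT_274_277 j)
def eT_267_277 (j : ℕ) : ℕ := bif Nat.blt j 272 then (eT_267_272 j) else (eT_272_277 j)
def eT_277_279 (j : ℕ) : ℕ := bif Nat.blt j 278 then E_277 else E_278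
def eT_280_282 (j : ℕ) : ℕ := bif Nat.blt j 281 then E_280 else E_281
def eT_279_282 (j : ℕ) : ℕ := bif Nat.blt j 280 then E_279 else (eT_280_282 j)
def eT_277_282 (j : ℕ) : ℕ := bif Nat.blt j 279 then (eT_277_279 j) else (eT_279_282 j)
def eT_283_285 (j : ℕ) : ℕ := bif Nat.blt j 284 then E_283 else E_284
def eT_282_285 (j : ℕ) : ℕ := bif Nat.blt j 283 then E_282 else (eT_283_285 j)
def eT_286_288 (j : ℕ) : ℕ := bif Nat.blt j 287 then E_286 else E_287
def eT_285_288 (j : ℕ) : ℕ := bif Nat.blt j 286 then E_285 else (eT_286_288 j)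
def eT_282_288 (j : ℕ) : ℕ := bif Nat.blt j 285 then (eT_282_285 j) else (eT_285_288 j)
def eT_277_288 (j : ℕ) : ℕ := bif Nat.blt j 282 then (eT_277_282 j) else (eT_282_288 j)
def eT_267_288 (j : ℕ) : ℕ := bif Nat.blt j 277 then (eT_267_277 j) else (eT_277_288 j)
def eT_247_288 (j : ℕ) : ℕ := bif Nat.blt j 267 then (eT_247_267 j) else (eT_267_288 j)
def eT_288_290 (j : ℕ) : ℕ := bif Nat.blt j 289 then E_288 else E_289
def eT_291_293 (j : ℕ) : ℕ := bif Nat.blt j 292 then E_291 else E_292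
def eT_290_293 (j : ℕ) : ℕ := bif Nat.blt j 291 then E_290 else (eT_291_293 j)
def eT_288_293 (j : ℕ) : ℕ := bif Nat.blt j 290 then (eT_288_290 j) else (eT_290_293 j)
def eT_293_295 (j : ℕ) : ℕ := bif Nat.blt j 294 then E_293 else E_294
def eT_296_298 (j : ℕ) : ℕ := bif Nat.blt j 297 then E_296 else E_297
def eT_295_298 (j : ℕ) : ℕ := bif Nat.blt j 296 then E_295 else (eT_296_298 j)
def eT_293_298 (j : ℕ) : ℕ := bif Nat.blt j 295 then (eT_293_295 j) else (eT_295_298 j)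
def eT_288_298 (j : ℕ) : ℕ := bif Nat.blt j 293 then (eT_288_293 j) else (eT_293_298 j)
def eT_298_300 (j : ℕ) : ℕ := bif Nat.blt j 299 then E_298 else E_299
def eT_301_303 (j : ℕ) : ℕ := bif Nat.blt j 302 then E_301 else E_302
def eT_300_303 (j : ℕ) : ℕ := bif Nat.blt j 301 then E_300 else (eT_301_303 j)
def eT_298_303 (j : ℕ) : ℕ := bif Nat.blt j 300 then (eT_298_300 j) else (eT_300_303 j)
def eT_304_306 (j : ℕ) : ℕ := bif Nat.blt j 305 then E_304 else E_305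
def eT_303_306 (j : ℕ) : ℕ := bif Nat.blt j 304 then E_303 else (eT_304_306 j)
def eT_307_309 (j : ℕ) : ℕ := bif Nat.blt j 308 then E_307 else E_308
def eT_306_309 (j : ℕ) : ℕ := bif Nat.blt j 307 then E_306 else (eT_307_309 j)
def eT_303_309 (j : ℕ) : ℕ := bif Nat.blt j 306 then (eT_303_306 j) else (eT_306_309 j)
def eT_298_309 (j : ℕ) : ℕ := bif Nat.blt j 303 then (eT_298_303 j) else (eT_303_309 j)
def eT_288_309 (j : ℕ) : ℕ := bif Nat.blt j 298 then (eT_288_298 j) else (eT_298_309 j)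
def eT_309_311 (j : ℕ) : ℕ := bif Nat.blt j 310 then E_309 else E_310
def eT_312_314 (j : ℕ) : ℕ := bif Nat.blt j 313 then E_312 else E_313
def eT_311_314 (j : ℕ) : ℕ := bif Nat.blt j 312 then E_311 else (eT_312_314 j)
def eT_309_314 (j : ℕ) : ℕ := bif Nat.blt j 311 then (eT_309_311 j) else (eT_311_314 j)
def eT_314_316 (j : ℕ) : ℕ := bif Nat.blt j 315 then E_314 else E_315
def eT_317_319 (j : ℕ) : ℕ := bif Nat.blt j 318 then E_317 else E_318
def eT_316_319 (j : ℕ) : ℕ := bif Nat.blt j 317 then E_316 else (eT_317_319 j)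
def eT_314_319 (j : ℕ) : ℕ := bif Nat.blt j 316 then (eT_314_316 j) else (eT_316_319 j)
def eT_309_319 (j : ℕ) : ℕ := bif Nat.blt j 314 then (eT_309_314 j) else (eT_314_319 j)
def eT_319_321 (j : ℕ) : ℕ := bif Nat.blt j 320 then E_319 else E_320
def eT_322_324 (j : ℕ) : ℕ := bif Nat.blt j 323 then E_322 else E_323
def eT_321_324 (j : ℕ) : ℕ := bif Nat.blt j 322 then E_321 else (eT_322_324 j)
def eT_319_324 (j : ℕ) : ℕ := bif Nat.blt j 321 then (eT_319_321 j) else (eT_321_324 j)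
def eT_325_327 (j : ℕ) : ℕ := bif Nat.blt j 326 then E_325 else E_326
def eT_324_327 (j : ℕ) : ℕ := bif Nat.blt j 325 then E_324 else (eT_325_327 j)
def eT_328_330 (j : ℕ) : ℕ := bif Nat.blt j 329 then E_328 else E_329
def eT_327_330 (j : ℕ) : ℕ := bif Nat.blt j 328 then E_327 else (eT_328_330 j)
def eT_324_330 (j : ℕ) : ℕ := bif Nat.blt j 327 then (eT_324_327 j) else (eT_327_330 j)
def eT_319_330 (j : ℕ) : ℕ := bif Nat.blt j 324 then (eT_319_324 j) else (eT_324_330 j)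
def eT_309_330 (j : ℕ) : ℕ := bif Nat.blt j 319 then (eT_309_319 j) else (eT_319_330 j)
def eT_288_330 (j : ℕ) : ℕ := bif Nat.blt j 309 then (eT_288_309 j) else (eT_309_330 j)
def eT_247_330 (j : ℕ) : ℕ := bif Nat.blt j 288 then (eT_247_288 j) else (eT_288_330 j)
def eT_165_330 (j : ℕ) : ℕ := bif Nat.blt j 247 then (eT_165_247 j) else (eT_247_330 j)
def eT_0_330 (j : ℕ) : ℕ := bif Nat.blt j 165 then (eT_0_165 j) else (eT_165_330 j)
def eT (j : ℕ) : ℕ := (eT_0_330 j)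
noncomputable def chunkF (h : ℕ) : ℕ := Nat.rec (motive := fun _ => ℕ) (eT 0) (fun n _ => eT (Nat.succ n)) h
noncomputable def Eo (r : ℕ) : ℕ := Nat.land (Nat.shiftRight (chunkF (Nat.shiftRight r 8)) (Nat.mul (Nat.land r 255) 54)) 18014398509481983
def invT : ℕ := 0xffef7cefae78df6d74cf2c70beeb6caeaa689e69648e28607de75c6da6585d65544d24503ce34c2c92881c61440c2040
def inv (y : ℕ) : ℕ := invOf invT y
def Wt_1_3 (j : ℕ) : List ℕ := bif Nat.blt j 2 then [nat_lit 4, nat_lit 1, nat_lit 4, nat_lit 1] else [nat_lit 5, nat_lit 1, nat_lit 5, nat_lit 1]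
def Wt_0_3 (j : ℕ) : List ℕ := bif Nat.blt j 1 then [nat_lit 3, nat_lit 1, nat_lit 3, nat_lit 1] else (Wt_1_3 j)
def Wt_3_5 (j : ℕ) : List ℕ := bif Nat.blt j 4 then [nat_lit 6, nat_lit 1, nat_lit 6, nat_lit 1] else [nat_lit 7, nat_lit 1, nat_lit 7, nat_lit 1]
def Wt_5_7 (j : ℕ) : List ℕ := bif Nat.blt j 6 then [nat_lit 8, nat_lit 1, nat_lit 8, nat_lit 1] else [nat_lit 1, nat_lit 0, nat_lit 1, nat_lit 0, nat_lit 1, nat_lit 0]
def Wt_3_7 (j : ℕ) : List ℕ := bif Nat.blt j 5 then (Wt_3_5 j) else (Wt_5_7 j)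
def Wt_0_7 (j : ℕ) : List ℕ := bif Nat.blt j 3 then (Wt_0_3 j) else (Wt_3_7 j)
def Wt_8_10 (j : ℕ) : List ℕ := bif Nat.blt j 9 then [nat_lit 4, nat_lit 0, nat_lit 4, nat_lit 0] else [nat_lit 5, nat_lit 0, nat_lit 5, nat_lit 0]
def Wt_7_10 (j : ℕ) : List ℕ := bif Nat.blt j 8 then [nat_lit 3, nat_lit 0, nat_lit 3, nat_lit 0] else (Wt_8_10 j)
def Wt_10_12 (j : ℕ) : List ℕ := bif Nat.blt j 11 then [nat_lit 6, nat_lit 0, nat_lit 6, nat_lit 0] else [nat_lit 7, nat_lit 0, nat_lit 7, nat_lit 0]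
def Wt_12_14 (j : ℕ) : List ℕ := bif Nat.blt j 13 then [nat_lit 8, nat_lit 0, nat_lit 8, nat_lit 0] else [nat_lit 1, nat_lit 2, nat_lit 1, nat_lit 2, nat_lit 1, nat_lit 2]
def Wt_10_14 (j : ℕ) : List ℕ := bif Nat.blt j 12 then (Wt_10_12 j) else (Wt_12_14 j)
def Wt_7_14 (j : ℕ) : List ℕ := bif Nat.blt j 10 then (Wt_7_10 j) else (Wt_10_14 j)
def Wt_0_14 (j : ℕ) : List ℕ := bif Nat.blt j 7 then (Wt_0_7 j) else (Wt_7_14 j)
def Wt_15_17 (j : ℕ) : List ℕ := bif Nat.blt j 16 then [nat_lit 5, nat_lit 2, nat_lit 5, nat_lit 2] else [nat_lit 6, nat_lit 2, nat_lit 6, nat_lit 2]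
def Wt_14_17 (j : ℕ) : List ℕ := bif Nat.blt j 15 then [nat_lit 4, nat_lit 2, nat_lit 4, nat_lit 2] else (Wt_15_17 j)
def Wt_17_19 (j : ℕ) : List ℕ := bif Nat.blt j 18 then [nat_lit 7, nat_lit 2, nat_lit 7, nat_lit 2] else [nat_lit 8, nat_lit 2, nat_lit 8, nat_lit 2]
def Wt_19_21 (j : ℕ) : List ℕ := bif Nat.blt j 20 then [nat_lit 3, nat_lit 2, nat_lit 1, nat_lit 0, nat_lit 10, nat_lit 7, nat_lit 4, nat_lit 3, nat_lit 2, nat_lit 1, nat_lit 0, nat_lit 7, nat_lit 4, nat_lit 3, nat_lit 2, nat_lit 1, nat_lit 0, nat_lit 7, nat_lit 4, nat_lit 3, nat_lit 2, nat_lit 1, nat_lit 0, nat_lit 7, nat_lit 4, nat_lit 3, nat_lit 2, nat_lit 1, nat_lit 0, nat_lit 7, nat_lit 4] else [nat_lit 1, nat_lit 3, nat_lit 1, nat_lit 3]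
def Wt_17_21 (j : ℕ) : List ℕ := bif Nat.blt j 19 then (Wt_17_19 j) else (Wt_19_21 j)
def Wt_14_21 (j : ℕ) : List ℕ := bif Nat.blt j 17 then (Wt_14_17 j) else (Wt_17_21 j)
def Wt_21_23 (j : ℕ) : List ℕ := bif Nat.blt j 22 then [nat_lit 2, nat_lit 3, nat_lit 2, nat_lit 3, nat_lit 2, nat_lit 3] else [nat_lit 3, nat_lit 4, nat_lit 3, nat_lit 4, nat_lit 3, nat_lit 4]
def Wt_23_25 (j : ℕ) : List ℕ := bif Nat.blt j 24 then [nat_lit 5, nat_lit 3, nat_lit 5, nat_lit 3] else [nat_lit 6, nat_lit 3, nat_lit 6, nat_lit 3]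
def Wt_21_25 (j : ℕ) : List ℕ := bif Nat.blt j 23 then (Wt_21_23 j) else (Wt_23_25 j)
def Wt_25_27 (j : ℕ) : List ℕ := bif Nat.blt j 26 then [nat_lit 8, nat_lit 3, nat_lit 8, nat_lit 3] else [nat_lit 10, nat_lit 7, nat_lit 4, nat_lit 3, nat_lit 2, nat_lit 1, nat_lit 0, nat_lit 7, nat_lit 4, nat_lit 3, nat_lit 2, nat_lit 1, nat_lit 0, nat_lit 7, nat_lit 4, nat_lit 3, nat_lit 2, nat_lit 1, nat_lit 0, nat_lit 7, nat_lit 4, nat_lit 3, nat_lit 2, nat_lit 1, nat_lit 0, nat_lit 7, nat_lit 4, nat_lit 3, nat_lit 2, nat_lit 1, nat_lit 0]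
def Wt_27_29 (j : ℕ) : List ℕ := bif Nat.blt j 28 then [nat_lit 8, nat_lit 4, nat_lit 8, nat_lit 4] else [nat_lit 6, nat_lit 4, nat_lit 6, nat_lit 4]
def Wt_25_29 (j : ℕ) : List ℕ := bif Nat.blt j 27 then (Wt_25_27 j) else (Wt_27_29 j)
def Wt_21_29 (j : ℕ) : List ℕ := bif Nat.blt j 25 then (Wt_21_25 j) else (Wt_25_29 j)
def Wt_14_29 (j : ℕ) : List ℕ := bif Nat.blt j 21 then (Wt_14_21 j) else (Wt_21_29 j)
def Wt_0_29 (j : ℕ) : List ℕ := bif Nat.blt j 14 then (Wt_0_14 j) else (Wt_14_29 j)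
def Wt_30_32 (j : ℕ) : List ℕ := bif Nat.blt j 31 then [nat_lit 2, nat_lit 4, nat_lit 2, nat_lit 4] else [nat_lit 2, nat_lit 7, nat_lit 2, nat_lit 7]
def Wt_29_32 (j : ℕ) : List ℕ := bif Nat.blt j 30 then [nat_lit 6, nat_lit 7, nat_lit 6, nat_lit 7] else (Wt_30_32 j)
def Wt_32_34 (j : ℕ) : List ℕ := bif Nat.blt j 33 then [nat_lit 2, nat_lit 0, nat_lit 2, nat_lit 0] else [nat_lit 1, nat_lit 4, nat_lit 1, nat_lit 4]
def Wt_34_36 (j : ℕ) : List ℕ := bif Nat.blt j 35 then [nat_lit 1, nat_lit 7, nat_lit 1, nat_lit 7] else [nat_lit 0, nat_lit 1, nat_lit 0, nat_lit 1, nat_lit 0, nat_lit 1]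
def Wt_32_36 (j : ℕ) : List ℕ := bif Nat.blt j 34 then (Wt_32_34 j) else (Wt_34_36 j)
def Wt_29_36 (j : ℕ) : List ℕ := bif Nat.blt j 32 then (Wt_29_32 j) else (Wt_32_36 j)
def Wt_37_39 (j : ℕ) : List ℕ := bif Nat.blt j 38 then [nat_lit 0, nat_lit 3, nat_lit 0, nat_lit 3] else [nat_lit 0, nat_lit 4, nat_lit 0, nat_lit 4]
def Wt_36_39 (j : ℕ) : List ℕ := bif Nat.blt j 37 then [nat_lit 0, nat_lit 2, nat_lit 0, nat_lit 2] else (Wt_37_39 j)
def Wt_39_41 (j : ℕ) : List ℕ := bif Nat.blt j 40 then [nat_lit 63, nat_lit 7, nat_lit 0, nat_lit 7, nat_lit 0] else [nat_lit 0, nat_lit 0, nat_lit 63]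
def Wt_41_43 (j : ℕ) : List ℕ := bif Nat.blt j 42 then [nat_lit 7, nat_lit 7, nat_lit 63] else [nat_lit 9, nat_lit 63, nat_lit 10, nat_lit 63]
def Wt_39_43 (j : ℕ) : List ℕ := bif Nat.blt j 41 then (Wt_39_41 j) else (Wt_41_43 j)
def Wt_36_43 (j : ℕ) : List ℕ := bif Nat.blt j 39 then (Wt_36_39 j) else (Wt_39_43 j)
def Wt_29_43 (j : ℕ) : List ℕ := bif Nat.blt j 36 then (Wt_29_36 j) else (Wt_36_43 j)
def Wt_44_46 (j : ℕ) : List ℕ := bif Nat.blt j 45 then [nat_lit 63, nat_lit 63, nat_lit 63] else [nat_lit 1, nat_lit 1, nat_lit 63]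
def Wt_43_46 (j : ℕ) : List ℕ := bif Nat.blt j 44 then [nat_lit 63, nat_lit 1, nat_lit 63, nat_lit 1, nat_lit 63] else (Wt_44_46 j)
def Wt_46_48 (j : ℕ) : List ℕ := bif Nat.blt j 47 then [nat_lit 2, nat_lit 1, nat_lit 2, nat_lit 1, nat_lit 2, nat_lit 1] else [nat_lit 3, nat_lit 2, nat_lit 3, nat_lit 2, nat_lit 3, nat_lit 2]
def Wt_48_50 (j : ℕ) : List ℕ := bif Nat.blt j 49 then [nat_lit 63, nat_lit 1, nat_lit 7, nat_lit 1, nat_lit 7] else [nat_lit 4, nat_lit 4, nat_lit 63]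
def Wt_46_50 (j : ℕ) : List ℕ := bif Nat.blt j 48 then (Wt_46_48 j) else (Wt_48_50 j)
def Wt_43_50 (j : ℕ) : List ℕ := bif Nat.blt j 46 then (Wt_43_46 j) else (Wt_46_50 j)
def Wt_50_52 (j : ℕ) : List ℕ := bif Nat.blt j 51 then [nat_lit 63, nat_lit 1, nat_lit 4, nat_lit 1, nat_lit 4] else [nat_lit 3, nat_lit 3, nat_lit 63]
def Wt_52_54 (j : ℕ) : List ℕ := bif Nat.blt j 53 then [nat_lit 5, nat_lit 7, nat_lit 5, nat_lit 7] else [nat_lit 7, nat_lit 5, nat_lit 4, nat_lit 3, nat_lit 2, nat_lit 1, nat_lit 0, nat_lit 7, nat_lit 5, nat_lit 4, nat_lit 3, nat_lit 2, nat_lit 1, nat_lit 0, nat_lit 7, nat_lit 5, nat_lit 4, nat_lit 3, nat_lit 2, nat_lit 1, nat_lit 0, nat_lit 7, nat_lit 5, nat_lit 4, nat_lit 3, nat_lit 2, nat_lit 1, nat_lit 0, nat_lit 7, nat_lit 5, nat_lit 4, nat_lit 3, nat_lit 2, nat_lit 1, nat_lit 0, nat_lit 7, nat_lit 5, nat_lit 4, nat_lit 3, nat_lit 2, nat_lit 1, nat_lit 0, nat_lit 7, nat_lit 5, nat_lit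 4, nat_lit 3, nat_lit 2, nat_lit 1, nat_lit 0, nat_lit 7, nat_lit 5, nat_lit 4, nat_lit 3, nat_lit 2, nat_lit 1, nat_lit 0, nat_lit 7, nat_lit 5, nat_lit 4, nat_lit 3, nat_lit 2, nat_lit 1, nat_lit 0]
def Wt_50_54 (j : ℕ) : List ℕ := bif Nat.blt j 52 then (Wt_50_52 j) else (Wt_52_54 j)
def Wt_54_56 (j : ℕ) : List ℕ := bif Nat.blt j 55 then [nat_lit 1, nat_lit 5, nat_lit 1, nat_lit 5] else [nat_lit 2, nat_lit 5, nat_lit 2, nat_lit 5]
def Wt_56_58 (j : ℕ) : List ℕ := bif Nat.blt j 57 then [nat_lit 0, nat_lit 5, nat_lit 0, nat_lit 5] else [nat_lit 63, nat_lit 4, nat_lit 5, nat_lit 4, nat_lit 5, nat_lit 4, nat_lit 5]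
def Wt_54_58 (j : ℕ) : List ℕ := bif Nat.blt j 56 then (Wt_54_56 j) else (Wt_56_58 j)
def Wt_50_58 (j : ℕ) : List ℕ := bif Nat.blt j 54 then (Wt_50_54 j) else (Wt_54_58 j)
def Wt_43_58 (j : ℕ) : List ℕ := bif Nat.blt j 50 then (Wt_43_50 j) else (Wt_50_58 j)
def Wt_29_58 (j : ℕ) : List ℕ := bif Nat.blt j 43 then (Wt_29_43 j) else (Wt_43_58 j)
def Wt_0_58 (j : ℕ) : List ℕ := bif Nat.blt j 29 then (Wt_0_29 j) else (Wt_29_58 j)
def Wt_59_61 (j : ℕ) : List ℕ := bif Nat.blt j 60 then [nat_lit 5, nat_lit 5, nat_lit 63] else [nat_lit 4, nat_lit 7, nat_lit 4, nat_lit 7]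
def Wt_58_61 (j : ℕ) : List ℕ := bif Nat.blt j 59 then [nat_lit 63, nat_lit 5, nat_lit 63, nat_lit 5] else (Wt_59_61 j)
def Wt_61_63 (j : ℕ) : List ℕ := bif Nat.blt j 62 then [nat_lit 63, nat_lit 3, nat_lit 4, nat_lit 3, nat_lit 4, nat_lit 3, nat_lit 4] else [nat_lit 63, nat_lit 4, nat_lit 63, nat_lit 4]
def Wt_63_65 (j : ℕ) : List ℕ := bif Nat.blt j 64 then [nat_lit 2, nat_lit 2, nat_lit 63] else [nat_lit 4, nat_lit 5, nat_lit 4, nat_lit 5, nat_lit 4, nat_lit 5]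
def Wt_61_65 (j : ℕ) : List ℕ := bif Nat.blt j 63 then (Wt_61_63 j) else (Wt_63_65 j)
def Wt_58_65 (j : ℕ) : List ℕ := bif Nat.blt j 61 then (Wt_58_61 j) else (Wt_61_65 j)
def Wt_66_68 (j : ℕ) : List ℕ := bif Nat.blt j 67 then [nat_lit 63, nat_lit 3, nat_lit 63, nat_lit 3, nat_lit 63] else [nat_lit 63, nat_lit 5, nat_lit 4, nat_lit 5, nat_lit 4, nat_lit 5, nat_lit 4]
def Wt_65_68 (j : ℕ) : List ℕ := bif Nat.blt j 66 then [nat_lit 63, nat_lit 1, nat_lit 2, nat_lit 1, nat_lit 2, nat_lit 1, nat_lit 2] else (Wt_66_68 j)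
def Wt_68_70 (j : ℕ) : List ℕ := bif Nat.blt j 69 then [nat_lit 63, nat_lit 3, nat_lit 63, nat_lit 3] else [nat_lit 63, nat_lit 2, nat_lit 63, nat_lit 2]
def Wt_70_72 (j : ℕ) : List ℕ := bif Nat.blt j 71 then [nat_lit 63, nat_lit 1, nat_lit 63, nat_lit 1] else [nat_lit 63, nat_lit 4, nat_lit 3, nat_lit 4, nat_lit 3, nat_lit 4, nat_lit 3]
def Wt_68_72 (j : ℕ) : List ℕ := bif Nat.blt j 70 then (Wt_68_70 j) else (Wt_70_72 j)
def Wt_65_72 (j : ℕ) : List ℕ := bif Nat.blt j 68 then (Wt_65_68 j) else (Wt_68_72 j)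
def Wt_58_72 (j : ℕ) : List ℕ := bif Nat.blt j 65 then (Wt_58_65 j) else (Wt_65_72 j)
def Wt_73_75 (j : ℕ) : List ℕ := bif Nat.blt j 74 then [nat_lit 6, nat_lit 5, nat_lit 4, nat_lit 3, nat_lit 2, nat_lit 1, nat_lit 7, nat_lit 6, nat_lit 5, nat_lit 4, nat_lit 3, nat_lit 2, nat_lit 1, nat_lit 7, nat_lit 6, nat_lit 5, nat_lit 4, nat_lit 3, nat_lit 2, nat_lit 1, nat_lit 7, nat_lit 6, nat_lit 5, nat_lit 4, nat_lit 3, nat_lit 2, nat_lit 1, nat_lit 7, nat_lit 6, nat_lit 5, nat_lit 4, nat_lit 3, nat_lit 2, nat_lit 1, nat_lit 7, nat_lit 6, nat_lit 5, nat_lit 4, nat_lit 3, nat_lit 2, nat_lit 1, nat_lit 7, nat_lit 6, nat_lit 5, nat_lit 4, nat_lit 3, nat_lit 2, nat_lit 1, nat_lit 7, nat_lit 6, nat_lit 5, nat_lit 4, nat_lit 3, nat_lit 2, nat_lit 1, nat_lit 7, nat_lit 6, nat_lit 5, nat_lit 4, nat_lit 3, nat_lit 2, nat_lit 1, nat_lit 7] else [nat_lit 1, nat_lit 6, nat_lit 1, nat_lit 6]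
def Wt_72_75 (j : ℕ) : List ℕ := bif Nat.blt j 73 then [nat_lit 8, nat_lit 5, nat_lit 8, nat_lit 5] else (Wt_73_75 j)
def Wt_75_77 (j : ℕ) : List ℕ := bif Nat.blt j 76 then [nat_lit 2, nat_lit 6, nat_lit 2, nat_lit 6] else [nat_lit 3, nat_lit 6, nat_lit 3, nat_lit 6]
def Wt_77_79 (j : ℕ) : List ℕ := bif Nat.blt j 78 then [nat_lit 4, nat_lit 6, nat_lit 4, nat_lit 6] else [nat_lit 5, nat_lit 6, nat_lit 5, nat_lit 6, nat_lit 5, nat_lit 6]
def Wt_75_79 (j : ℕ) : List ℕ := bif Nat.blt j 77 then (Wt_75_77 j) else (Wt_77_79 j)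
def Wt_72_79 (j : ℕ) : List ℕ := bif Nat.blt j 75 then (Wt_72_75 j) else (Wt_75_79 j)
def Wt_79_81 (j : ℕ) : List ℕ := bif Nat.blt j 80 then [nat_lit 8, nat_lit 6, nat_lit 8, nat_lit 6] else [nat_lit 63, nat_lit 6, nat_lit 1, nat_lit 6, nat_lit 1]
def Wt_81_83 (j : ℕ) : List ℕ := bif Nat.blt j 82 then [nat_lit 6, nat_lit 6, nat_lit 63] else [nat_lit 63, nat_lit 6, nat_lit 2, nat_lit 6, nat_lit 2]
def Wt_79_83 (j : ℕ) : List ℕ := bif Nat.blt j 81 then (Wt_79_81 j) else (Wt_81_83 j)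
def Wt_83_85 (j : ℕ) : List ℕ := bif Nat.blt j 84 then [nat_lit 1, nat_lit 63, nat_lit 1, nat_lit 63] else [nat_lit 3, nat_lit 5, nat_lit 3, nat_lit 5]
def Wt_85_87 (j : ℕ) : List ℕ := bif Nat.blt j 86 then [nat_lit 7, nat_lit 3, nat_lit 7, nat_lit 3, nat_lit 7, nat_lit 3] else [nat_lit 7, nat_lit 4, nat_lit 7, nat_lit 4]
def Wt_83_87 (j : ℕ) : List ℕ := bif Nat.blt j 85 then (Wt_83_85 j) else (Wt_85_87 j)
def Wt_79_87 (j : ℕ) : List ℕ := bif Nat.blt j 83 then (Wt_79_83 j) else (Wt_83_87 j)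
def Wt_72_87 (j : ℕ) : List ℕ := bif Nat.blt j 79 then (Wt_72_79 j) else (Wt_79_87 j)
def Wt_58_87 (j : ℕ) : List ℕ := bif Nat.blt j 72 then (Wt_58_72 j) else (Wt_72_87 j)
def Wt_88_90 (j : ℕ) : List ℕ := bif Nat.blt j 89 then [nat_lit 63, nat_lit 6, nat_lit 7, nat_lit 6, nat_lit 7] else [nat_lit 3, nat_lit 63, nat_lit 3, nat_lit 63]
def Wt_87_90 (j : ℕ) : List ℕ := bif Nat.blt j 88 then [nat_lit 7, nat_lit 5, nat_lit 7, nat_lit 5] else (Wt_88_90 j)
def Wt_90_92 (j : ℕ) : List ℕ := bif Nat.blt j 91 then [nat_lit 63, nat_lit 7, nat_lit 1, nat_lit 7, nat_lit 1] else [nat_lit 63, nat_lit 7, nat_lit 6, nat_lit 7, nat_lit 6]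
def Wt_92_94 (j : ℕ) : List ℕ := bif Nat.blt j 93 then [nat_lit 63, nat_lit 7, nat_lit 5, nat_lit 7, nat_lit 5] else [nat_lit 63, nat_lit 7, nat_lit 4, nat_lit 7, nat_lit 4]
def Wt_90_94 (j : ℕ) : List ℕ := bif Nat.blt j 92 then (Wt_90_92 j) else (Wt_92_94 j)
def Wt_87_94 (j : ℕ) : List ℕ := bif Nat.blt j 90 then (Wt_87_90 j) else (Wt_90_94 j)
def Wt_95_97 (j : ℕ) : List ℕ := bif Nat.blt j 96 then [nat_lit 5, nat_lit 4, nat_lit 5, nat_lit 4, nat_lit 5, nat_lit 4] else [nat_lit 6, nat_lit 5, nat_lit 6, nat_lit 5, nat_lit 6, nat_lit 5]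
def Wt_94_97 (j : ℕ) : List ℕ := bif Nat.blt j 95 then [nat_lit 4, nat_lit 3, nat_lit 4, nat_lit 3, nat_lit 4, nat_lit 3] else (Wt_95_97 j)
def Wt_97_99 (j : ℕ) : List ℕ := bif Nat.blt j 98 then [nat_lit 7, nat_lit 6, nat_lit 7, nat_lit 6] else [nat_lit 63, nat_lit 1, nat_lit 6, nat_lit 1, nat_lit 6]
def Wt_99_101 (j : ℕ) : List ℕ := bif Nat.blt j 100 then [nat_lit 63, nat_lit 2, nat_lit 6, nat_lit 2, nat_lit 6] else [nat_lit 8, nat_lit 7, nat_lit 3, nat_lit 5, nat_lit 4, nat_lit 3, nat_lit 1, nat_lit 2, nat_lit 3, nat_lit 8, nat_lit 7, nat_lit 3, nat_lit 5, nat_lit 4, nat_lit 3, nat_lit 1, nat_lit 2, nat_lit 3, nat_lit 8, nat_lit 7, nat_lit 3, nat_lit 5, nat_lit 4, nat_lit 3, nat_lit 1, nat_lit 2, nat_lit 3, nat_lit 8, nat_lit 7, nat_lit 3, nat_lit 5, nat_lit 4, nat_lit 3, nat_lit 1, nat_lit 2, nat_lit 3, nat_lit 8, nat_lit 7, nat_lit 3, nat_lit 5, nat_lit 4, nat_lit 3, nat_lit 1, nat_lit 2, nat_lit 3, nat_lit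 8, nat_lit 7, nat_lit 3, nat_lit 5, nat_lit 4, nat_lit 3, nat_lit 1, nat_lit 2, nat_lit 3, nat_lit 8, nat_lit 7, nat_lit 3, nat_lit 5, nat_lit 4, nat_lit 3, nat_lit 1, nat_lit 2, nat_lit 3, nat_lit 8, nat_lit 7, nat_lit 3, nat_lit 5, nat_lit 4, nat_lit 3, nat_lit 1, nat_lit 2, nat_lit 3, nat_lit 8, nat_lit 7, nat_lit 3, nat_lit 5, nat_lit 4, nat_lit 3, nat_lit 1, nat_lit 2, nat_lit 3, nat_lit 8, nat_lit 7, nat_lit 3, nat_lit 5, nat_lit 4, nat_lit 3, nat_lit 1, nat_lit 2, nat_lit 3]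
def Wt_97_101 (j : ℕ) : List ℕ := bif Nat.blt j 99 then (Wt_97_99 j) else (Wt_99_101 j)
def Wt_94_101 (j : ℕ) : List ℕ := bif Nat.blt j 97 then (Wt_94_97 j) else (Wt_97_101 j)
def Wt_87_101 (j : ℕ) : List ℕ := bif Nat.blt j 94 then (Wt_87_94 j) else (Wt_94_101 j)
def Wt_102_104 (j : ℕ) : List ℕ := bif Nat.blt j 103 then [nat_lit 2, nat_lit 8, nat_lit 2, nat_lit 8] else [nat_lit 4, nat_lit 8, nat_lit 4, nat_lit 8]
def Wt_101_104 (j : ℕ) : List ℕ := bif Nat.blt j 102 then [nat_lit 1, nat_lit 8, nat_lit 1, nat_lit 8] else (Wt_102_104 j)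
def Wt_104_106 (j : ℕ) : List ℕ := bif Nat.blt j 105 then [nat_lit 7, nat_lit 8, nat_lit 7, nat_lit 8, nat_lit 7, nat_lit 8] else [nat_lit 63, nat_lit 1, nat_lit 3, nat_lit 1, nat_lit 3]
def Wt_106_108 (j : ℕ) : List ℕ := bif Nat.blt j 107 then [nat_lit 8, nat_lit 7, nat_lit 8, nat_lit 7, nat_lit 8, nat_lit 7] else [nat_lit 63, nat_lit 3, nat_lit 8, nat_lit 3, nat_lit 8]
def Wt_104_108 (j : ℕ) : List ℕ := bif Nat.blt j 106 then (Wt_104_106 j) else (Wt_106_108 j)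
def Wt_101_108 (j : ℕ) : List ℕ := bif Nat.blt j 104 then (Wt_101_104 j) else (Wt_104_108 j)
def Wt_108_110 (j : ℕ) : List ℕ := bif Nat.blt j 109 then [nat_lit 8, nat_lit 8, nat_lit 63] else [nat_lit 3, nat_lit 8, nat_lit 3, nat_lit 8]
def Wt_110_112 (j : ℕ) : List ℕ := bif Nat.blt j 111 then [nat_lit 6, nat_lit 8, nat_lit 6, nat_lit 8] else [nat_lit 63, nat_lit 3, nat_lit 2, nat_lit 3, nat_lit 2, nat_lit 3, nat_lit 2]
def Wt_108_112 (j : ℕ) : List ℕ := bif Nat.blt j 110 then (Wt_108_110 j) else (Wt_110_112 j)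
def Wt_112_114 (j : ℕ) : List ℕ := bif Nat.blt j 113 then [nat_lit 63, nat_lit 3, nat_lit 1, nat_lit 3, nat_lit 1] else [nat_lit 63, nat_lit 0, nat_lit 63, nat_lit 0]
def Wt_114_116 (j : ℕ) : List ℕ := bif Nat.blt j 115 then [nat_lit 63, nat_lit 7, nat_lit 63, nat_lit 7] else [nat_lit 0, nat_lit 7, nat_lit 0, nat_lit 7]
def Wt_112_116 (j : ℕ) : List ℕ := bif Nat.blt j 114 then (Wt_112_114 j) else (Wt_114_116 j)
def Wt_108_116 (j : ℕ) : List ℕ := bif Nat.blt j 112 then (Wt_108_112 j) else (Wt_112_116 j)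
def Wt_101_116 (j : ℕ) : List ℕ := bif Nat.blt j 108 then (Wt_101_108 j) else (Wt_108_116 j)
def Wt_87_116 (j : ℕ) : List ℕ := bif Nat.blt j 101 then (Wt_87_101 j) else (Wt_101_116 j)
def Wt_58_116 (j : ℕ) : List ℕ := bif Nat.blt j 87 then (Wt_58_87 j) else (Wt_87_116 j)
def Wt_0_116 (j : ℕ) : List ℕ := bif Nat.blt j 58 then (Wt_0_58 j) else (Wt_58_116 j)
def Wt_117_119 (j : ℕ) : List ℕ := bif Nat.blt j 118 then [nat_lit 10, nat_lit 9, nat_lit 63] else [nat_lit 3, nat_lit 2, nat_lit 1, nat_lit 0, nat_lit 7, nat_lit 5, nat_lit 4, nat_lit 3, nat_lit 2, nat_lit 1, nat_lit 0, nat_lit 7, nat_lit 5, nat_lit 4, nat_lit 3, nat_lit 2, nat_lit 1, nat_lit 0, nat_lit 7, nat_lit 5, nat_lit 4, nat_lit 3, nat_lit 2, nat_lit 1, nat_lit 0, nat_lit 7, nat_lit 5, nat_lit 4, nat_lit 3, nat_lit 2, nat_lit 1, nat_lit 0, nat_lit 7, nat_lit 5, nat_lit 4, nat_lit 3, nat_lit 2, nat_lit 1, nat_lit 0, nat_lit 7, nat_lit 5, nat_lit 4,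 nat_lit 3, nat_lit 2, nat_lit 1, nat_lit 0, nat_lit 7, nat_lit 5, nat_lit 4, nat_lit 3, nat_lit 2, nat_lit 1, nat_lit 0, nat_lit 7, nat_lit 5, nat_lit 4, nat_lit 3, nat_lit 2, nat_lit 1, nat_lit 0, nat_lit 7, nat_lit 5, nat_lit 4]
def Wt_116_119 (j : ℕ) : List ℕ := bif Nat.blt j 117 then [nat_lit 63, nat_lit 3, nat_lit 0, nat_lit 3, nat_lit 0] else (Wt_117_119 j)
def Wt_119_121 (j : ℕ) : List ℕ := bif Nat.blt j 120 then [nat_lit 63, nat_lit 3, nat_lit 5, nat_lit 3, nat_lit 5] else [nat_lit 63, nat_lit 4, nat_lit 7, nat_lit 4, nat_lit 7]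
def Wt_121_123 (j : ℕ) : List ℕ := bif Nat.blt j 122 then [nat_lit 63, nat_lit 0, nat_lit 7, nat_lit 0, nat_lit 7] else [nat_lit 63, nat_lit 4, nat_lit 0, nat_lit 4, nat_lit 0]
def Wt_119_123 (j : ℕ) : List ℕ := bif Nat.blt j 121 then (Wt_119_121 j) else (Wt_121_123 j)
def Wt_116_123 (j : ℕ) : List ℕ := bif Nat.blt j 119 then (Wt_116_119 j) else (Wt_119_123 j)
def Wt_124_126 (j : ℕ) : List ℕ := bif Nat.blt j 125 then [nat_lit 63, nat_lit 7, nat_lit 3, nat_lit 7, nat_lit 3, nat_lit 7, nat_lit 3] else [nat_lit 5, nat_lit 8, nat_lit 5, nat_lit 8]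
def Wt_123_126 (j : ℕ) : List ℕ := bif Nat.blt j 124 then [nat_lit 63, nat_lit 3, nat_lit 7, nat_lit 3, nat_lit 7, nat_lit 3, nat_lit 7] else (Wt_124_126 j)
def Wt_126_128 (j : ℕ) : List ℕ := bif Nat.blt j 127 then [nat_lit 0, nat_lit 8, nat_lit 0, nat_lit 8] else [nat_lit 63, nat_lit 8, nat_lit 5, nat_lit 8, nat_lit 5]
def Wt_128_130 (j : ℕ) : List ℕ := bif Nat.blt j 129 then [nat_lit 0, nat_lit 63, nat_lit 0, nat_lit 63] else [nat_lit 63, nat_lit 1, nat_lit 5, nat_lit 1, nat_lit 5]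
def Wt_126_130 (j : ℕ) : List ℕ := bif Nat.blt j 128 then (Wt_126_128 j) else (Wt_128_130 j)
def Wt_123_130 (j : ℕ) : List ℕ := bif Nat.blt j 126 then (Wt_123_126 j) else (Wt_126_130 j)
def Wt_116_130 (j : ℕ) : List ℕ := bif Nat.blt j 123 then (Wt_116_123 j) else (Wt_123_130 j)
def Wt_131_133 (j : ℕ) : List ℕ := bif Nat.blt j 132 then [nat_lit 63, nat_lit 0, nat_lit 4, nat_lit 0, nat_lit 4] else [nat_lit 9, nat_lit 0, nat_lit 1, nat_lit 2, nat_lit 3, nat_lit 4, nat_lit 7, nat_lit 0, nat_lit 1, nat_lit 2, nat_lit 3, nat_lit 4, nat_lit 7, nat_lit 0, nat_lit 1, nat_lit 2, nat_lit 3, nat_lit 4, nat_lit 7, nat_lit 0, nat_lit 1, nat_lit 2, nat_lit 3, nat_lit 4, nat_lit 7, nat_lit 0, nat_lit 1, nat_lit 2, nat_lit 3, nat_lit 4, nat_lit 7]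
def Wt_130_133 (j : ℕ) : List ℕ := bif Nat.blt j 131 then [nat_lit 0, nat_lit 6, nat_lit 0, nat_lit 6] else (Wt_131_133 j)
def Wt_133_135 (j : ℕ) : List ℕ := bif Nat.blt j 134 then [nat_lit 63, nat_lit 6, nat_lit 3, nat_lit 6, nat_lit 3] else [nat_lit 63, nat_lit 4, nat_lit 63, nat_lit 4, nat_lit 63]
def Wt_135_137 (j : ℕ) : List ℕ := bif Nat.blt j 136 then [nat_lit 63, nat_lit 5, nat_lit 63, nat_lit 5, nat_lit 63] else [nat_lit 63, nat_lit 6, nat_lit 63, nat_lit 6]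
def Wt_133_137 (j : ℕ) : List ℕ := bif Nat.blt j 135 then (Wt_133_135 j) else (Wt_135_137 j)
def Wt_130_137 (j : ℕ) : List ℕ := bif Nat.blt j 133 then (Wt_130_133 j) else (Wt_133_137 j)
def Wt_137_139 (j : ℕ) : List ℕ := bif Nat.blt j 138 then [nat_lit 4, nat_lit 63, nat_lit 4, nat_lit 63] else [nat_lit 8, nat_lit 63, nat_lit 8, nat_lit 63]
def Wt_139_141 (j : ℕ) : List ℕ := bif Nat.blt j 140 then [nat_lit 63, nat_lit 5, nat_lit 3, nat_lit 5, nat_lit 3] else [nat_lit 5, nat_lit 63, nat_lit 5, nat_lit 63]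
def Wt_137_141 (j : ℕ) : List ℕ := bif Nat.blt j 139 then (Wt_137_139 j) else (Wt_139_141 j)
def Wt_141_143 (j : ℕ) : List ℕ := bif Nat.blt j 142 then [nat_lit 63, nat_lit 5, nat_lit 7, nat_lit 5, nat_lit 7] else [nat_lit 63, nat_lit 5, nat_lit 2, nat_lit 5, nat_lit 2]
def Wt_143_145 (j : ℕ) : List ℕ := bif Nat.blt j 144 then [nat_lit 63, nat_lit 8, nat_lit 4, nat_lit 8, nat_lit 4] else [nat_lit 2, nat_lit 63, nat_lit 2, nat_lit 63]
def Wt_141_145 (j : ℕ) : List ℕ := bif Nat.blt j 143 then (Wt_141_143 j) else (Wt_143_145 j)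
def Wt_137_145 (j : ℕ) : List ℕ := bif Nat.blt j 141 then (Wt_137_141 j) else (Wt_141_145 j)
def Wt_130_145 (j : ℕ) : List ℕ := bif Nat.blt j 137 then (Wt_130_137 j) else (Wt_137_145 j)
def Wt_116_145 (j : ℕ) : List ℕ := bif Nat.blt j 130 then (Wt_116_130 j) else (Wt_130_145 j)
def Wt_146_148 (j : ℕ) : List ℕ := bif Nat.blt j 147 then [nat_lit 63, nat_lit 8, nat_lit 3, nat_lit 8, nat_lit 3] else [nat_lit 63, nat_lit 7, nat_lit 8, nat_lit 7, nat_lit 8, nat_lit 7, nat_lit 8]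
def Wt_145_148 (j : ℕ) : List ℕ := bif Nat.blt j 146 then [nat_lit 3, nat_lit 7, nat_lit 3, nat_lit 7, nat_lit 3, nat_lit 7] else (Wt_146_148 j)
def Wt_148_150 (j : ℕ) : List ℕ := bif Nat.blt j 149 then [nat_lit 4, nat_lit 3, nat_lit 2, nat_lit 1, nat_lit 0, nat_lit 7, nat_lit 5, nat_lit 4, nat_lit 3, nat_lit 2, nat_lit 1, nat_lit 0, nat_lit 7, nat_lit 5, nat_lit 4, nat_lit 3, nat_lit 2, nat_lit 1, nat_lit 0, nat_lit 7, nat_lit 5, nat_lit 4, nat_lit 3, nat_lit 2, nat_lit 1, nat_lit 0, nat_lit 7, nat_lit 5, nat_lit 4, nat_lit 3, nat_lit 2, nat_lit 1, nat_lit 0, nat_lit 7, nat_lit 5, nat_lit 4, nat_lit 3, nat_lit 2, nat_lit 1, nat_lit 0, nat_lit 7, nat_lit 5, nat_lit 4, nat_lit 3, nat_lit 2, nat_lit 1, nat_lit 0, nat_lit 7, nat_lit 5, nat_lit 4, nat_lit 3, nat_lit 2, nat_lit 1, nat_lit 0, nat_lit 7, nat_lit 5, nat_lit 4, nat_lit 3, nat_lit 2, nat_lit 1, nat_lit 0, nat_lit 7, nat_lit 5] else [nat_lit 63, nat_lit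 0, nat_lit 1, nat_lit 0, nat_lit 1, nat_lit 0, nat_lit 1]
def Wt_150_152 (j : ℕ) : List ℕ := bif Nat.blt j 151 then [nat_lit 63, nat_lit 2, nat_lit 63, nat_lit 2, nat_lit 63] else [nat_lit 63, nat_lit 63, nat_lit 63, nat_lit 63, nat_lit 63]
def Wt_148_152 (j : ℕ) : List ℕ := bif Nat.blt j 150 then (Wt_148_150 j) else (Wt_150_152 j)
def Wt_145_152 (j : ℕ) : List ℕ := bif Nat.blt j 148 then (Wt_145_148 j) else (Wt_148_152 j)
def Wt_153_155 (j : ℕ) : List ℕ := bif Nat.blt j 154 then [nat_lit 7, nat_lit 63, nat_lit 7, nat_lit 63] else [nat_lit 63, nat_lit 6, nat_lit 5, nat_lit 6, nat_lit 5, nat_lit 6, nat_lit 5]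
def Wt_152_155 (j : ℕ) : List ℕ := bif Nat.blt j 153 then [nat_lit 63, nat_lit 2, nat_lit 7, nat_lit 2, nat_lit 7] else (Wt_153_155 j)
def Wt_155_157 (j : ℕ) : List ℕ := bif Nat.blt j 156 then [nat_lit 63, nat_lit 2, nat_lit 1, nat_lit 2, nat_lit 1, nat_lit 2, nat_lit 1] else [nat_lit 63, nat_lit 2, nat_lit 4, nat_lit 2, nat_lit 4]
def Wt_157_159 (j : ℕ) : List ℕ := bif Nat.blt j 158 then [nat_lit 63, nat_lit 6, nat_lit 4, nat_lit 6, nat_lit 4] else [nat_lit 63, nat_lit 4, nat_lit 1, nat_lit 4, nat_lit 1]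
def Wt_155_159 (j : ℕ) : List ℕ := bif Nat.blt j 157 then (Wt_155_157 j) else (Wt_157_159 j)
def Wt_152_159 (j : ℕ) : List ℕ := bif Nat.blt j 155 then (Wt_152_155 j) else (Wt_155_159 j)
def Wt_145_159 (j : ℕ) : List ℕ := bif Nat.blt j 152 then (Wt_145_152 j) else (Wt_152_159 j)
def Wt_160_162 (j : ℕ) : List ℕ := bif Nat.blt j 161 then [nat_lit 63, nat_lit 8, nat_lit 1, nat_lit 8, nat_lit 1] else [nat_lit 63, nat_lit 2, nat_lit 3, nat_lit 2, nat_lit 3, nat_lit 2, nat_lit 3]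
def Wt_159_162 (j : ℕ) : List ℕ := bif Nat.blt j 160 then [nat_lit 9, nat_lit 10, nat_lit 63] else (Wt_160_162 j)
def Wt_162_164 (j : ℕ) : List ℕ := bif Nat.blt j 163 then [nat_lit 63, nat_lit 8, nat_lit 63, nat_lit 8] else [nat_lit 6, nat_lit 63, nat_lit 6, nat_lit 63]
def Wt_164_166 (j : ℕ) : List ℕ := bif Nat.blt j 165 then [nat_lit 63, nat_lit 7, nat_lit 63, nat_lit 7, nat_lit 63] else [nat_lit 2, nat_lit 3, nat_lit 8, nat_lit 7, nat_lit 3, nat_lit 5, nat_lit 4, nat_lit 3, nat_lit 1, nat_lit 2, nat_lit 3, nat_lit 8, nat_lit 7, nat_lit 3, nat_lit 5, nat_lit 4, nat_lit 3, nat_lit 1, nat_lit 2, nat_lit 3, nat_lit 8, nat_lit 7, nat_lit 3, nat_lit 5, nat_lit 4, nat_lit 3, nat_lit 1, nat_lit 2, nat_lit 3, nat_lit 8, nat_lit 7, nat_lit 3, nat_lit 5, nat_lit 4, nat_lit 3, nat_lit 1, nat_lit 2, nat_lit 3, nat_lit 8, nat_lit 7, nat_lit 3, nat_lit 5, nat_lit 4, nat_lit 3, nat_lit 1, nat_lit 2, nat_lit 3, nat_lit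 8, nat_lit 7, nat_lit 3, nat_lit 5, nat_lit 4, nat_lit 3, nat_lit 1, nat_lit 2, nat_lit 3, nat_lit 8, nat_lit 7, nat_lit 3, nat_lit 5, nat_lit 4, nat_lit 3, nat_lit 1, nat_lit 2, nat_lit 3, nat_lit 8, nat_lit 7, nat_lit 3, nat_lit 5, nat_lit 4, nat_lit 3, nat_lit 1, nat_lit 2, nat_lit 3, nat_lit 8, nat_lit 7, nat_lit 3, nat_lit 5, nat_lit 4, nat_lit 3, nat_lit 1, nat_lit 2, nat_lit 3, nat_lit 8, nat_lit 7, nat_lit 3, nat_lit 5, nat_lit 4, nat_lit 3, nat_lit 1]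
def Wt_162_166 (j : ℕ) : List ℕ := bif Nat.blt j 164 then (Wt_162_164 j) else (Wt_164_166 j)
def Wt_159_166 (j : ℕ) : List ℕ := bif Nat.blt j 162 then (Wt_159_162 j) else (Wt_162_166 j)
def Wt_166_168 (j : ℕ) : List ℕ := bif Nat.blt j 167 then [nat_lit 63, nat_lit 0, nat_lit 2, nat_lit 0, nat_lit 2] else [nat_lit 63, nat_lit 8, nat_lit 63, nat_lit 8, nat_lit 63]
def Wt_168_170 (j : ℕ) : List ℕ := bif Nat.blt j 169 then [nat_lit 7, nat_lit 3, nat_lit 5, nat_lit 4, nat_lit 3, nat_lit 1, nat_lit 2, nat_lit 3, nat_lit 8, nat_lit 7, nat_lit 3, nat_lit 5, nat_lit 4, nat_lit 3, nat_lit 1, nat_lit 2, nat_lit 3, nat_lit 8, nat_lit 7, nat_lit 3, nat_lit 5, nat_lit 4, nat_lit 3, nat_lit 1, nat_lit 2, nat_lit 3, nat_lit 8, nat_lit 7, nat_lit 3, nat_lit 5, nat_lit 4, nat_lit 3, nat_lit 1, nat_lit 2, nat_lit 3, nat_lit 8, nat_lit 7, nat_lit 3, nat_lit 5, nat_lit 4, nat_lit 3, nat_lit 1, nat_lit 2, nat_lit 3, nat_lit 8,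 nat_lit 7, nat_lit 3, nat_lit 5, nat_lit 4, nat_lit 3, nat_lit 1, nat_lit 2, nat_lit 3, nat_lit 8, nat_lit 7, nat_lit 3, nat_lit 5, nat_lit 4, nat_lit 3, nat_lit 1, nat_lit 2, nat_lit 3, nat_lit 8, nat_lit 7, nat_lit 3, nat_lit 5, nat_lit 4, nat_lit 3, nat_lit 1, nat_lit 2, nat_lit 3, nat_lit 8, nat_lit 7, nat_lit 3, nat_lit 5, nat_lit 4, nat_lit 3, nat_lit 1, nat_lit 2, nat_lit 3, nat_lit 8, nat_lit 7, nat_lit 3, nat_lit 5, nat_lit 4, nat_lit 3, nat_lit 1, nat_lit 2, nat_lit 3, nat_lit 8] else [nat_lit 63, nat_lit 8, nat_lit 7, nat_lit 8, nat_lit 7, nat_lit 8, nat_lit 7]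
def Wt_166_170 (j : ℕ) : List ℕ := bif Nat.blt j 168 then (Wt_166_168 j) else (Wt_168_170 j)
def Wt_170_172 (j : ℕ) : List ℕ := bif Nat.blt j 171 then [nat_lit 63, nat_lit 7, nat_lit 2, nat_lit 7, nat_lit 2] else [nat_lit 5, nat_lit 4, nat_lit 3, nat_lit 2, nat_lit 1, nat_lit 0, nat_lit 7, nat_lit 5, nat_lit 4, nat_lit 3, nat_lit 2, nat_lit 1, nat_lit 0, nat_lit 7, nat_lit 5, nat_lit 4, nat_lit 3, nat_lit 2, nat_lit 1, nat_lit 0, nat_lit 7, nat_lit 5, nat_lit 4, nat_lit 3, nat_lit 2, nat_lit 1, nat_lit 0, nat_lit 7, nat_lit 5, nat_lit 4, nat_lit 3, nat_lit 2, nat_lit 1, nat_lit 0, nat_lit 7, nat_lit 5, nat_lit 4, nat_lit 3, nat_lit 2, nat_lit 1, nat_lit 0, nat_lit 7, nat_lit 5, nat_lit 4, nat_lit 3, nat_lit 2, nat_lit 1, nat_lit 0, nat_lit 7, nat_lit 5, nat_lit 4, nat_lit 3, nat_lit 2, nat_lit 1, nat_lit 0, nat_lit 7, nat_lit 5, nat_lit 4, nat_lit 3, nat_lit 2, nat_lit 1, nat_lit 0, nat_lit 7]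
def Wt_172_174 (j : ℕ) : List ℕ := bif Nat.blt j 173 then [nat_lit 2, nat_lit 1, nat_lit 7, nat_lit 6, nat_lit 5, nat_lit 4, nat_lit 3, nat_lit 2, nat_lit 1, nat_lit 7, nat_lit 6, nat_lit 5, nat_lit 4, nat_lit 3, nat_lit 2, nat_lit 1, nat_lit 7, nat_lit 6, nat_lit 5, nat_lit 4, nat_lit 3, nat_lit 2, nat_lit 1, nat_lit 7, nat_lit 6, nat_lit 5, nat_lit 4, nat_lit 3, nat_lit 2, nat_lit 1, nat_lit 7, nat_lit 6, nat_lit 5, nat_lit 4, nat_lit 3, nat_lit 2, nat_lit 1, nat_lit 7, nat_lit 6, nat_lit 5, nat_lit 4, nat_lit 3, nat_lit 2, nat_lit 1, nat_lit 7, nat_lit 6, nat_lit 5, nat_lit 4, nat_lit 3, nat_lit 2, nat_lit 1, nat_lit 7, nat_lit 6, nat_lit 5, nat_lit 4, nat_lit 3, nat_lit 2, nat_lit 1, nat_lit 7, nat_lit 6, nat_lit 5, nat_lit 4, nat_lit 3] else [nat_lit 63, nat_lit 4, nat_lit 6, nat_lit 4, nat_lit 6]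
def Wt_170_174 (j : ℕ) : List ℕ := bif Nat.blt j 172 then (Wt_170_172 j) else (Wt_172_174 j)
def Wt_166_174 (j : ℕ) : List ℕ := bif Nat.blt j 170 then (Wt_166_170 j) else (Wt_170_174 j)
def Wt_159_174 (j : ℕ) : List ℕ := bif Nat.blt j 166 then (Wt_159_166 j) else (Wt_166_174 j)
def Wt_145_174 (j : ℕ) : List ℕ := bif Nat.blt j 159 then (Wt_145_159 j) else (Wt_159_174 j)
def Wt_116_174 (j : ℕ) : List ℕ := bif Nat.blt j 145 then (Wt_116_145 j) else (Wt_145_174 j)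
def Wt_175_177 (j : ℕ) : List ℕ := bif Nat.blt j 176 then [nat_lit 63, nat_lit 1, nat_lit 8, nat_lit 1, nat_lit 8] else [nat_lit 4, nat_lit 3, nat_lit 1, nat_lit 2, nat_lit 3, nat_lit 8, nat_lit 7, nat_lit 3, nat_lit 5, nat_lit 4, nat_lit 3, nat_lit 1, nat_lit 2, nat_lit 3, nat_lit 8, nat_lit 7, nat_lit 3, nat_lit 5, nat_lit 4, nat_lit 3, nat_lit 1, nat_lit 2, nat_lit 3, nat_lit 8, nat_lit 7, nat_lit 3, nat_lit 5, nat_lit 4, nat_lit 3, nat_lit 1, nat_lit 2, nat_lit 3, nat_lit 8, nat_lit 7, nat_lit 3, nat_lit 5, nat_lit 4, nat_lit 3, nat_lit 1, nat_lit 2, nat_lit 3, nat_lit 8, nat_lit 7, nat_lit 3, nat_lit 5, nat_lit 4, nat_lit 3, nat_lit 1, nat_lit 2, nat_lit 3, nat_lit 8, nat_lit 7, nat_lit 3, nat_lit 5, nat_lit 4, nat_lit 3, nat_lit 1, nat_lit 2, nat_lit 3, nat_lit 8, nat_lit 7, nat_lit 3, nat_lit 5, nat_lit 4, nat_lit 3, nat_lit 1, nat_lit 2, nat_lit 3, nat_lit 8, nat_lit 7, nat_lit 3, nat_lit 5, nat_lit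 4, nat_lit 3, nat_lit 1, nat_lit 2, nat_lit 3, nat_lit 8, nat_lit 7, nat_lit 3, nat_lit 5, nat_lit 4, nat_lit 3, nat_lit 1, nat_lit 2, nat_lit 3, nat_lit 8, nat_lit 7, nat_lit 3, nat_lit 5]
def Wt_174_177 (j : ℕ) : List ℕ := bif Nat.blt j 175 then [nat_lit 3, nat_lit 2, nat_lit 1, nat_lit 7, nat_lit 6, nat_lit 5, nat_lit 4, nat_lit 3, nat_lit 2, nat_lit 1, nat_lit 7, nat_lit 6, nat_lit 5, nat_lit 4, nat_lit 3, nat_lit 2, nat_lit 1, nat_lit 7, nat_lit 6, nat_lit 5, nat_lit 4, nat_lit 3, nat_lit 2, nat_lit 1, nat_lit 7, nat_lit 6, nat_lit 5, nat_lit 4, nat_lit 3, nat_lit 2, nat_lit 1, nat_lit 7, nat_lit 6, nat_lit 5, nat_lit 4, nat_lit 3, nat_lit 2, nat_lit 1, nat_lit 7, nat_lit 6, nat_lit 5, nat_lit 4, nat_lit 3, nat_lit 2, nat_lit 1, nat_lit 7, nat_lit 6, nat_lit 5, nat_lit 4, nat_lit 3, nat_lit 2, nat_lit 1, nat_lit 7, nat_lit 6, nat_lit 5, nat_lit 4, nat_lit 3, nat_lit 2, nat_lit 1, nat_lit 7, nat_lit 6,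 nat_lit 5, nat_lit 4] else (Wt_175_177 j)
def Wt_177_179 (j : ℕ) : List ℕ := bif Nat.blt j 178 then [nat_lit 63, nat_lit 4, nat_lit 2, nat_lit 4, nat_lit 2] else [nat_lit 1, nat_lit 2, nat_lit 3, nat_lit 8, nat_lit 7, nat_lit 3, nat_lit 5, nat_lit 4, nat_lit 3, nat_lit 1, nat_lit 2, nat_lit 3, nat_lit 8, nat_lit 7, nat_lit 3, nat_lit 5, nat_lit 4, nat_lit 3, nat_lit 1, nat_lit 2, nat_lit 3, nat_lit 8, nat_lit 7, nat_lit 3, nat_lit 5, nat_lit 4, nat_lit 3, nat_lit 1, nat_lit 2, nat_lit 3, nat_lit 8, nat_lit 7, nat_lit 3, nat_lit 5, nat_lit 4, nat_lit 3, nat_lit 1, nat_lit 2, nat_lit 3, nat_lit 8, nat_lit 7, nat_lit 3, nat_lit 5, nat_lit 4, nat_lit 3, nat_lit 1, nat_lit 2, nat_lit 3, nat_lit 8, nat_lit 7, nat_lit 3, nat_lit 5, nat_lit 4, nat_lit 3, nat_lit 1, nat_lit 2, nat_lit 3, nat_lit 8, nat_lit 7, nat_lit 3, nat_lit 5, nat_lit 4, nat_lit 3, nat_lit 1, nat_lit 2, nat_lit 3, nat_lit 8, nat_lit 7, nat_lit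 3, nat_lit 5, nat_lit 4, nat_lit 3, nat_lit 1, nat_lit 2, nat_lit 3, nat_lit 8, nat_lit 7, nat_lit 3, nat_lit 5, nat_lit 4, nat_lit 3, nat_lit 1, nat_lit 2, nat_lit 3, nat_lit 8, nat_lit 7, nat_lit 3, nat_lit 5, nat_lit 4, nat_lit 3]
def Wt_179_181 (j : ℕ) : List ℕ := bif Nat.blt j 180 then [nat_lit 63, nat_lit 5, nat_lit 1, nat_lit 5, nat_lit 1] else [nat_lit 63, nat_lit 63, nat_lit 63, nat_lit 63]
def Wt_177_181 (j : ℕ) : List ℕ := bif Nat.blt j 179 then (Wt_177_179 j) else (Wt_179_181 j)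
def Wt_174_181 (j : ℕ) : List ℕ := bif Nat.blt j 177 then (Wt_174_177 j) else (Wt_177_181 j)
def Wt_182_184 (j : ℕ) : List ℕ := bif Nat.blt j 183 then [nat_lit 63, nat_lit 4, nat_lit 3, nat_lit 2, nat_lit 1, nat_lit 0, nat_lit 7, nat_lit 5, nat_lit 4, nat_lit 3, nat_lit 2, nat_lit 1, nat_lit 0, nat_lit 7, nat_lit 5, nat_lit 4, nat_lit 3, nat_lit 2, nat_lit 1, nat_lit 0, nat_lit 7, nat_lit 5, nat_lit 4, nat_lit 3, nat_lit 2, nat_lit 1, nat_lit 0, nat_lit 7, nat_lit 5, nat_lit 4, nat_lit 3, nat_lit 2, nat_lit 1, nat_lit 0, nat_lit 7, nat_lit 5, nat_lit 4, nat_lit 3, nat_lit 2, nat_lit 1, nat_lit 0, nat_lit 7, nat_lit 5, nat_lit 4, nat_lit 3, nat_lit 2, nat_lit 1, nat_lit 0, nat_lit 7, nat_lit 5, nat_lit 4, nat_lit 3, nat_lit 2, nat_lit 1, nat_lit 0, nat_lit 7, nat_lit 5, nat_lit 4, nat_lit 3, nat_lit 2, nat_lit 1, nat_lit 0, nat_lit 7, nat_lit 5] else [nat_lit 7, nat_lit 6, nat_lit 5, nat_lit 4, nat_lit 3,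 nat_lit 2, nat_lit 1, nat_lit 7, nat_lit 6, nat_lit 5, nat_lit 4, nat_lit 3, nat_lit 2, nat_lit 1, nat_lit 7, nat_lit 6, nat_lit 5, nat_lit 4, nat_lit 3, nat_lit 2, nat_lit 1, nat_lit 7, nat_lit 6, nat_lit 5, nat_lit 4, nat_lit 3, nat_lit 2, nat_lit 1, nat_lit 7, nat_lit 6, nat_lit 5, nat_lit 4, nat_lit 3, nat_lit 2, nat_lit 1, nat_lit 7, nat_lit 6, nat_lit 5, nat_lit 4, nat_lit 3, nat_lit 2, nat_lit 1, nat_lit 7, nat_lit 6, nat_lit 5, nat_lit 4, nat_lit 3, nat_lit 2, nat_lit 1, nat_lit 7, nat_lit 6, nat_lit 5, nat_lit 4, nat_lit 3, nat_lit 2, nat_lit 1, nat_lit 7, nat_lit 6, nat_lit 5, nat_lit 4, nat_lit 3, nat_lit 2, nat_lit 1]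
def Wt_181_184 (j : ℕ) : List ℕ := bif Nat.blt j 182 then [nat_lit 4, nat_lit 3, nat_lit 2, nat_lit 1, nat_lit 7, nat_lit 6, nat_lit 5, nat_lit 4, nat_lit 3, nat_lit 2, nat_lit 1, nat_lit 7, nat_lit 6, nat_lit 5, nat_lit 4, nat_lit 3, nat_lit 2, nat_lit 1, nat_lit 7, nat_lit 6, nat_lit 5, nat_lit 4, nat_lit 3, nat_lit 2, nat_lit 1, nat_lit 7, nat_lit 6, nat_lit 5, nat_lit 4, nat_lit 3, nat_lit 2, nat_lit 1, nat_lit 7, nat_lit 6, nat_lit 5, nat_lit 4, nat_lit 3, nat_lit 2, nat_lit 1, nat_lit 7, nat_lit 6, nat_lit 5, nat_lit 4, nat_lit 3, nat_lit 2, nat_lit 1, nat_lit 7, nat_lit 6, nat_lit 5, nat_lit 4, nat_lit 3, nat_lit 2, nat_lit 1, nat_lit 7, nat_lit 6, nat_lit 5, nat_lit 4, nat_lit 3, nat_lit 2, nat_lit 1, nat_lit 7, nat_lit 6, nat_lit 5] else (Wt_182_184 j)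
def Wt_184_186 (j : ℕ) : List ℕ := bif Nat.blt j 185 then [nat_lit 63, nat_lit 5, nat_lit 8, nat_lit 5, nat_lit 8] else [nat_lit 63, nat_lit 2, nat_lit 8, nat_lit 2, nat_lit 8]
def Wt_186_188 (j : ℕ) : List ℕ := bif Nat.blt j 187 then [nat_lit 63, nat_lit 0, nat_lit 3, nat_lit 0, nat_lit 3] else [nat_lit 0, nat_lit 7, nat_lit 5, nat_lit 4, nat_lit 3, nat_lit 2, nat_lit 1, nat_lit 0, nat_lit 7, nat_lit 5, nat_lit 4, nat_lit 3, nat_lit 2, nat_lit 1, nat_lit 0, nat_lit 7, nat_lit 5, nat_lit 4, nat_lit 3, nat_lit 2, nat_lit 1, nat_lit 0, nat_lit 7, nat_lit 5, nat_lit 4, nat_lit 3, nat_lit 2, nat_lit 1, nat_lit 0, nat_lit 7, nat_lit 5, nat_lit 4, nat_lit 3, nat_lit 2, nat_lit 1, nat_lit 0, nat_lit 7, nat_lit 5, nat_lit 4, nat_lit 3, nat_lit 2, nat_lit 1, nat_lit 0, nat_lit 7, nat_lit 5, nat_lit 4, nat_lit 3, nat_lit 2, nat_lit 1, nat_lit 0, nat_lit 7, nat_lit 5, nat_lit 4, nat_lit 3, nat_lit 2, nat_lit 1, nat_lit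 0, nat_lit 7, nat_lit 5, nat_lit 4, nat_lit 3, nat_lit 2, nat_lit 1]
def Wt_184_188 (j : ℕ) : List ℕ := bif Nat.blt j 186 then (Wt_184_186 j) else (Wt_186_188 j)
def Wt_181_188 (j : ℕ) : List ℕ := bif Nat.blt j 184 then (Wt_181_184 j) else (Wt_184_188 j)
def Wt_174_188 (j : ℕ) : List ℕ := bif Nat.blt j 181 then (Wt_174_181 j) else (Wt_181_188 j)
def Wt_189_191 (j : ℕ) : List ℕ := bif Nat.blt j 190 then [nat_lit 63, nat_lit 4, nat_lit 8, nat_lit 4, nat_lit 8] else [nat_lit 63, nat_lit 0, nat_lit 8, nat_lit 0, nat_lit 8]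
def Wt_188_191 (j : ℕ) : List ℕ := bif Nat.blt j 189 then [nat_lit 63, nat_lit 5, nat_lit 6, nat_lit 5, nat_lit 6, nat_lit 5, nat_lit 6] else (Wt_189_191 j)
def Wt_191_193 (j : ℕ) : List ℕ := bif Nat.blt j 192 then [nat_lit 63, nat_lit 0, nat_lit 5, nat_lit 0, nat_lit 5] else [nat_lit 63, nat_lit 2, nat_lit 5, nat_lit 2, nat_lit 5]
def Wt_193_195 (j : ℕ) : List ℕ := bif Nat.blt j 194 then [nat_lit 63, nat_lit 8, nat_lit 2, nat_lit 8, nat_lit 2] else [nat_lit 3, nat_lit 5, nat_lit 4, nat_lit 3, nat_lit 1, nat_lit 2, nat_lit 3, nat_lit 8, nat_lit 7, nat_lit 3, nat_lit 5, nat_lit 4, nat_lit 3, nat_lit 1, nat_lit 2, nat_lit 3, nat_lit 8, nat_lit 7, nat_lit 3, nat_lit 5, nat_lit 4, nat_lit 3, nat_lit 1, nat_lit 2, nat_lit 3, nat_lit 8, nat_lit 7, nat_lit 3, nat_lit 5, nat_lit 4, nat_lit 3, nat_lit 1, nat_lit 2, nat_lit 3, nat_lit 8, nat_lit 7, nat_lit 3, nat_lit 5, nat_lit 4, nat_lit 3, nat_lit 1, nat_lit 2, nat_lit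 3, nat_lit 8, nat_lit 7, nat_lit 3, nat_lit 5, nat_lit 4, nat_lit 3, nat_lit 1, nat_lit 2, nat_lit 3, nat_lit 8, nat_lit 7, nat_lit 3, nat_lit 5, nat_lit 4, nat_lit 3, nat_lit 1, nat_lit 2, nat_lit 3, nat_lit 8, nat_lit 7, nat_lit 3, nat_lit 5, nat_lit 4, nat_lit 3, nat_lit 1, nat_lit 2, nat_lit 3, nat_lit 8, nat_lit 7, nat_lit 3, nat_lit 5, nat_lit 4, nat_lit 3, nat_lit 1, nat_lit 2, nat_lit 3, nat_lit 8, nat_lit 7, nat_lit 3, nat_lit 5, nat_lit 4, nat_lit 3, nat_lit 1, nat_lit 2, nat_lit 3, nat_lit 8, nat_lit 7]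
def Wt_191_195 (j : ℕ) : List ℕ := bif Nat.blt j 193 then (Wt_191_193 j) else (Wt_193_195 j)
def Wt_188_195 (j : ℕ) : List ℕ := bif Nat.blt j 191 then (Wt_188_191 j) else (Wt_191_195 j)
def Wt_195_197 (j : ℕ) : List ℕ := bif Nat.blt j 196 then [nat_lit 5, nat_lit 4, nat_lit 3, nat_lit 1, nat_lit 2, nat_lit 3, nat_lit 8, nat_lit 7, nat_lit 3, nat_lit 5, nat_lit 4, nat_lit 3, nat_lit 1, nat_lit 2, nat_lit 3, nat_lit 8, nat_lit 7, nat_lit 3, nat_lit 5, nat_lit 4, nat_lit 3, nat_lit 1, nat_lit 2, nat_lit 3, nat_lit 8, nat_lit 7, nat_lit 3, nat_lit 5, nat_lit 4, nat_lit 3, nat_lit 1, nat_lit 2, nat_lit 3, nat_lit 8, nat_lit 7, nat_lit 3, nat_lit 5, nat_lit 4, nat_lit 3, nat_lit 1, nat_lit 2, nat_lit 3, nat_lit 8, nat_lit 7, nat_lit 3, nat_lit 5, nat_lit 4, nat_lit 3, nat_lit 1, nat_lit 2, nat_lit 3, nat_lit 8, nat_lit 7, nat_lit 3, nat_lit 5, nat_lit 4, nat_lit 3, nat_lit 1, nat_lit 2, nat_lit 3, nat_lit 8, nat_lit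 7, nat_lit 3, nat_lit 5, nat_lit 4, nat_lit 3, nat_lit 1, nat_lit 2, nat_lit 3, nat_lit 8, nat_lit 7, nat_lit 3, nat_lit 5, nat_lit 4, nat_lit 3, nat_lit 1, nat_lit 2, nat_lit 3, nat_lit 8, nat_lit 7, nat_lit 3, nat_lit 5, nat_lit 4, nat_lit 3, nat_lit 1, nat_lit 2, nat_lit 3, nat_lit 8, nat_lit 7, nat_lit 3] else [nat_lit 2, nat_lit 1, nat_lit 0, nat_lit 7, nat_lit 5, nat_lit 4, nat_lit 3, nat_lit 2, nat_lit 1, nat_lit 0, nat_lit 7, nat_lit 5, nat_lit 4, nat_lit 3, nat_lit 2, nat_lit 1, nat_lit 0, nat_lit 7, nat_lit 5, nat_lit 4, nat_lit 3, nat_lit 2, nat_lit 1, nat_lit 0, nat_lit 7, nat_lit 5, nat_lit 4, nat_lit 3, nat_lit 2, nat_lit 1, nat_lit 0, nat_lit 7, nat_lit 5, nat_lit 4, nat_lit 3, nat_lit 2, nat_lit 1, nat_lit 0, nat_lit 7, nat_lit 5, nat_lit 4, nat_lit 3, nat_lit 2, nat_lit 1, nat_lit 0, nat_lit 7, nat_lit 5, nat_lit 4, nat_lit 3, nat_lit 2, nat_lit 1, nat_lit 0, nat_lit 7, nat_lit 5, nat_lit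 4, nat_lit 3, nat_lit 2, nat_lit 1, nat_lit 0, nat_lit 7, nat_lit 5, nat_lit 4, nat_lit 3]
def Wt_197_199 (j : ℕ) : List ℕ := bif Nat.blt j 198 then [nat_lit 63, nat_lit 3, nat_lit 2, nat_lit 1, nat_lit 0, nat_lit 7, nat_lit 5, nat_lit 4, nat_lit 3, nat_lit 2, nat_lit 1, nat_lit 0, nat_lit 7, nat_lit 5, nat_lit 4, nat_lit 3, nat_lit 2, nat_lit 1, nat_lit 0, nat_lit 7, nat_lit 5, nat_lit 4, nat_lit 3, nat_lit 2, nat_lit 1, nat_lit 0, nat_lit 7, nat_lit 5, nat_lit 4, nat_lit 3, nat_lit 2, nat_lit 1, nat_lit 0, nat_lit 7, nat_lit 5, nat_lit 4, nat_lit 3, nat_lit 2, nat_lit 1, nat_lit 0, nat_lit 7, nat_lit 5, nat_lit 4, nat_lit 3, nat_lit 2, nat_lit 1, nat_lit 0, nat_lit 7, nat_lit 5, nat_lit 4, nat_lit 3, nat_lit 2, nat_lit 1, nat_lit 0, nat_lit 7, nat_lit 5, nat_lit 4, nat_lit 3, nat_lit 2, nat_lit 1, nat_lit 0, nat_lit 7, nat_lit 5, nat_lit 4] else [nat_lit 63, nat_lit 3, nat_lit 6, nat_lit 3, nat_lit 6]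
def Wt_195_199 (j : ℕ) : List ℕ := bif Nat.blt j 197 then (Wt_195_197 j) else (Wt_197_199 j)
def Wt_199_201 (j : ℕ) : List ℕ := bif Nat.blt j 200 then [nat_lit 63, nat_lit 6, nat_lit 8, nat_lit 6, nat_lit 8] else [nat_lit 5, nat_lit 4, nat_lit 3, nat_lit 2, nat_lit 1, nat_lit 7, nat_lit 6, nat_lit 5, nat_lit 4, nat_lit 3, nat_lit 2, nat_lit 1, nat_lit 7, nat_lit 6, nat_lit 5, nat_lit 4, nat_lit 3, nat_lit 2, nat_lit 1, nat_lit 7, nat_lit 6, nat_lit 5, nat_lit 4, nat_lit 3, nat_lit 2, nat_lit 1, nat_lit 7, nat_lit 6, nat_lit 5, nat_lit 4, nat_lit 3, nat_lit 2, nat_lit 1, nat_lit 7, nat_lit 6, nat_lit 5, nat_lit 4, nat_lit 3, nat_lit 2, nat_lit 1, nat_lit 7, nat_lit 6, nat_lit 5, nat_lit 4, nat_lit 3, nat_lit 2, nat_lit 1, nat_lit 7, nat_lit 6, nat_lit 5, nat_lit 4, nat_lit 3, nat_lit 2, nat_lit 1, nat_lit 7, nat_lit 6, nat_lit 5, nat_lit 4, nat_lit 3, nat_lit 2, nat_lit 1, nat_lit 7, nat_lit 6]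
def Wt_201_203 (j : ℕ) : List ℕ := bif Nat.blt j 202 then [nat_lit 63, nat_lit 6, nat_lit 0, nat_lit 6, nat_lit 0] else [nat_lit 63, nat_lit 2, nat_lit 0, nat_lit 2, nat_lit 0]
def Wt_199_203 (j : ℕ) : List ℕ := bif Nat.blt j 201 then (Wt_199_201 j) else (Wt_201_203 j)
def Wt_195_203 (j : ℕ) : List ℕ := bif Nat.blt j 199 then (Wt_195_199 j) else (Wt_199_203 j)
def Wt_188_203 (j : ℕ) : List ℕ := bif Nat.blt j 195 then (Wt_188_195 j) else (Wt_195_203 j)
def Wt_174_203 (j : ℕ) : List ℕ := bif Nat.blt j 188 then (Wt_174_188 j) else (Wt_188_203 j)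
def Wt_204_206 (j : ℕ) : List ℕ := bif Nat.blt j 205 then [nat_lit 63, nat_lit 6, nat_lit 63, nat_lit 6, nat_lit 63] else [nat_lit 63, nat_lit 0, nat_lit 6, nat_lit 0, nat_lit 6]
def Wt_203_206 (j : ℕ) : List ℕ := bif Nat.blt j 204 then [nat_lit 1, nat_lit 7, nat_lit 6, nat_lit 5, nat_lit 4, nat_lit 3, nat_lit 2, nat_lit 1, nat_lit 7, nat_lit 6, nat_lit 5, nat_lit 4, nat_lit 3, nat_lit 2, nat_lit 1, nat_lit 7, nat_lit 6, nat_lit 5, nat_lit 4, nat_lit 3, nat_lit 2, nat_lit 1, nat_lit 7, nat_lit 6, nat_lit 5, nat_lit 4, nat_lit 3, nat_lit 2, nat_lit 1, nat_lit 7, nat_lit 6, nat_lit 5, nat_lit 4, nat_lit 3, nat_lit 2, nat_lit 1, nat_lit 7, nat_lit 6, nat_lit 5, nat_lit 4, nat_lit 3, nat_lit 2, nat_lit 1, nat_lit 7, nat_lit 6, nat_lit 5, nat_lit 4, nat_lit 3, nat_lit 2, nat_lit 1, nat_lit 7, nat_lit 6, nat_lit 5, nat_lit 4, nat_lit 3, nat_lit 2, nat_lit 1, nat_lit 7, nat_lit 6, nat_lit 5, nat_lit 4, nat_lit 3,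 nat_lit 2] else (Wt_204_206 j)
def Wt_206_208 (j : ℕ) : List ℕ := bif Nat.blt j 207 then [nat_lit 4, nat_lit 5, nat_lit 6, nat_lit 7, nat_lit 1, nat_lit 2, nat_lit 3, nat_lit 4, nat_lit 5, nat_lit 6, nat_lit 7, nat_lit 1, nat_lit 2, nat_lit 3, nat_lit 4, nat_lit 5, nat_lit 6, nat_lit 7, nat_lit 1, nat_lit 2, nat_lit 3, nat_lit 4, nat_lit 5, nat_lit 6, nat_lit 7, nat_lit 1, nat_lit 2, nat_lit 3, nat_lit 4, nat_lit 5, nat_lit 6, nat_lit 7, nat_lit 1, nat_lit 2, nat_lit 3, nat_lit 4, nat_lit 5, nat_lit 6, nat_lit 7, nat_lit 1, nat_lit 2, nat_lit 3, nat_lit 4, nat_lit 5, nat_lit 6, nat_lit 7, nat_lit 1, nat_lit 2, nat_lit 3, nat_lit 4, nat_lit 5, nat_lit 6, nat_lit 7, nat_lit 1, nat_lit 2, nat_lit 3, nat_lit 4, nat_lit 5, nat_lit 6, nat_lit 7, nat_lit 1, nat_lit 2, nat_lit 3] else [nat_lit 63, nat_lit 8, nat_lit 6, nat_lit 8, nat_lit 6]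
def Wt_208_210 (j : ℕ) : List ℕ := bif Nat.blt j 209 then [nat_lit 5, nat_lit 6, nat_lit 7, nat_lit 1, nat_lit 2, nat_lit 3, nat_lit 4, nat_lit 5, nat_lit 6, nat_lit 7, nat_lit 1, nat_lit 2, nat_lit 3, nat_lit 4, nat_lit 5, nat_lit 6, nat_lit 7, nat_lit 1, nat_lit 2, nat_lit 3, nat_lit 4, nat_lit 5, nat_lit 6, nat_lit 7, nat_lit 1, nat_lit 2, nat_lit 3, nat_lit 4, nat_lit 5, nat_lit 6, nat_lit 7, nat_lit 1, nat_lit 2, nat_lit 3, nat_lit 4, nat_lit 5, nat_lit 6, nat_lit 7, nat_lit 1, nat_lit 2, nat_lit 3, nat_lit 4, nat_lit 5, nat_lit 6, nat_lit 7, nat_lit 1, nat_lit 2, nat_lit 3, nat_lit 4, nat_lit 5, nat_lit 6, nat_lit 7, nat_lit 1, nat_lit 2, nat_lit 3, nat_lit 4, nat_lit 5, nat_lit 6, nat_lit 7, nat_lit 1, nat_lit 2, nat_lit 3, nat_lit 4] else [nat_lit 63, nat_lit 5, nat_lit 0, nat_lit 5, nat_lit 0]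
def Wt_206_210 (j : ℕ) : List ℕ := bif Nat.blt j 208 then (Wt_206_208 j) else (Wt_208_210 j)
def Wt_203_210 (j : ℕ) : List ℕ := bif Nat.blt j 206 then (Wt_203_206 j) else (Wt_206_210 j)
def Wt_210_212 (j : ℕ) : List ℕ := bif Nat.blt j 211 then [nat_lit 0, nat_lit 1, nat_lit 2, nat_lit 3, nat_lit 4, nat_lit 5, nat_lit 7, nat_lit 0, nat_lit 1, nat_lit 2, nat_lit 3, nat_lit 4, nat_lit 5, nat_lit 7, nat_lit 0, nat_lit 1, nat_lit 2, nat_lit 3, nat_lit 4, nat_lit 5, nat_lit 7, nat_lit 0, nat_lit 1, nat_lit 2, nat_lit 3, nat_lit 4, nat_lit 5, nat_lit 7, nat_lit 0, nat_lit 1, nat_lit 2, nat_lit 3, nat_lit 4, nat_lit 5, nat_lit 7, nat_lit 0, nat_lit 1, nat_lit 2, nat_lit 3, nat_lit 4, nat_lit 5, nat_lit 7, nat_lit 0, nat_lit 1, nat_lit 2, nat_lit 3, nat_lit 4, nat_lit 5, nat_lit 7, nat_lit 0, nat_lit 1, nat_lit 2, nat_lit 3, nat_lit 4, nat_lit 5, nat_lit 7, nat_lit 0, nat_lit 1, nat_lit 2, nat_lit 3, nat_lit 4, nat_lit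 5, nat_lit 7] else [nat_lit 3, nat_lit 1, nat_lit 2, nat_lit 3, nat_lit 8, nat_lit 7, nat_lit 3, nat_lit 5, nat_lit 4, nat_lit 3, nat_lit 1, nat_lit 2, nat_lit 3, nat_lit 8, nat_lit 7, nat_lit 3, nat_lit 5, nat_lit 4, nat_lit 3, nat_lit 1, nat_lit 2, nat_lit 3, nat_lit 8, nat_lit 7, nat_lit 3, nat_lit 5, nat_lit 4, nat_lit 3, nat_lit 1, nat_lit 2, nat_lit 3, nat_lit 8, nat_lit 7, nat_lit 3, nat_lit 5, nat_lit 4, nat_lit 3, nat_lit 1, nat_lit 2, nat_lit 3, nat_lit 8, nat_lit 7, nat_lit 3, nat_lit 5, nat_lit 4, nat_lit 3, nat_lit 1, nat_lit 2, nat_lit 3, nat_lit 8, nat_lit 7, nat_lit 3, nat_lit 5, nat_lit 4, nat_lit 3, nat_lit 1, nat_lit 2, nat_lit 3, nat_lit 8, nat_lit 7, nat_lit 3, nat_lit 5, nat_lit 4, nat_lit 3, nat_lit 1, nat_lit 2, nat_lit 3, nat_lit 8, nat_lit 7, nat_lit 3, nat_lit 5, nat_lit 4, nat_lit 3, nat_lit 1, nat_lit 2, nat_lit 3, nat_lit 8, nat_lit 7, nat_lit 3, nat_lit 5, nat_lit 4, nat_lit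 3, nat_lit 1, nat_lit 2, nat_lit 3, nat_lit 8, nat_lit 7, nat_lit 3, nat_lit 5, nat_lit 4]
def Wt_212_214 (j : ℕ) : List ℕ := bif Nat.blt j 213 then [nat_lit 2, nat_lit 3, nat_lit 4, nat_lit 5, nat_lit 6, nat_lit 7, nat_lit 1, nat_lit 2, nat_lit 3, nat_lit 4, nat_lit 5, nat_lit 6, nat_lit 7, nat_lit 1, nat_lit 2, nat_lit 3, nat_lit 4, nat_lit 5, nat_lit 6, nat_lit 7, nat_lit 1, nat_lit 2, nat_lit 3, nat_lit 4, nat_lit 5, nat_lit 6, nat_lit 7, nat_lit 1, nat_lit 2, nat_lit 3, nat_lit 4, nat_lit 5, nat_lit 6, nat_lit 7, nat_lit 1, nat_lit 2, nat_lit 3, nat_lit 4, nat_lit 5, nat_lit 6, nat_lit 7, nat_lit 1, nat_lit 2, nat_lit 3, nat_lit 4, nat_lit 5, nat_lit 6, nat_lit 7, nat_lit 1, nat_lit 2, nat_lit 3, nat_lit 4, nat_lit 5, nat_lit 6, nat_lit 7, nat_lit 1, nat_lit 2, nat_lit 3, nat_lit 4, nat_lit 5, nat_lit 6, nat_lit 7, nat_lit 1] else [nat_lit 3, nat_lit 8, nat_lit 7, nat_lit 3, nat_lit 5, nat_lit 4, nat_lit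 3, nat_lit 1, nat_lit 2, nat_lit 3, nat_lit 8, nat_lit 7, nat_lit 3, nat_lit 5, nat_lit 4, nat_lit 3, nat_lit 1, nat_lit 2, nat_lit 3, nat_lit 8, nat_lit 7, nat_lit 3, nat_lit 5, nat_lit 4, nat_lit 3, nat_lit 1, nat_lit 2, nat_lit 3, nat_lit 8, nat_lit 7, nat_lit 3, nat_lit 5, nat_lit 4, nat_lit 3, nat_lit 1, nat_lit 2, nat_lit 3, nat_lit 8, nat_lit 7, nat_lit 3, nat_lit 5, nat_lit 4, nat_lit 3, nat_lit 1, nat_lit 2, nat_lit 3, nat_lit 8, nat_lit 7, nat_lit 3, nat_lit 5, nat_lit 4, nat_lit 3, nat_lit 1, nat_lit 2, nat_lit 3, nat_lit 8, nat_lit 7, nat_lit 3, nat_lit 5, nat_lit 4, nat_lit 3, nat_lit 1, nat_lit 2, nat_lit 3, nat_lit 8, nat_lit 7, nat_lit 3, nat_lit 5, nat_lit 4, nat_lit 3, nat_lit 1, nat_lit 2, nat_lit 3, nat_lit 8, nat_lit 7, nat_lit 3, nat_lit 5, nat_lit 4, nat_lit 3, nat_lit 1, nat_lit 2, nat_lit 3, nat_lit 8, nat_lit 7, nat_lit 3, nat_lit 5, nat_lit 4, nat_lit 3, nat_lit 1, nat_lit 2]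
def Wt_210_214 (j : ℕ) : List ℕ := bif Nat.blt j 212 then (Wt_210_212 j) else (Wt_212_214 j)
def Wt_214_216 (j : ℕ) : List ℕ := bif Nat.blt j 215 then [nat_lit 63, nat_lit 2, nat_lit 3, nat_lit 4, nat_lit 5, nat_lit 7, nat_lit 0, nat_lit 1, nat_lit 2, nat_lit 3, nat_lit 4, nat_lit 5, nat_lit 7, nat_lit 0, nat_lit 1, nat_lit 2, nat_lit 3, nat_lit 4, nat_lit 5, nat_lit 7, nat_lit 0, nat_lit 1, nat_lit 2, nat_lit 3, nat_lit 4, nat_lit 5, nat_lit 7, nat_lit 0, nat_lit 1, nat_lit 2, nat_lit 3, nat_lit 4, nat_lit 5, nat_lit 7, nat_lit 0, nat_lit 1, nat_lit 2, nat_lit 3, nat_lit 4, nat_lit 5, nat_lit 7, nat_lit 0, nat_lit 1, nat_lit 2, nat_lit 3, nat_lit 4, nat_lit 5, nat_lit 7, nat_lit 0, nat_lit 1, nat_lit 2, nat_lit 3, nat_lit 4, nat_lit 5, nat_lit 7, nat_lit 0, nat_lit 1, nat_lit 2, nat_lit 3, nat_lit 4, nat_lit 5, nat_lit 7, nat_lit 0, nat_lit 1] else [nat_lit 4, nat_lit 5, nat_lit 7, nat_lit 0, nat_lit 1,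 nat_lit 2, nat_lit 3, nat_lit 4, nat_lit 5, nat_lit 7, nat_lit 0, nat_lit 1, nat_lit 2, nat_lit 3, nat_lit 4, nat_lit 5, nat_lit 7, nat_lit 0, nat_lit 1, nat_lit 2, nat_lit 3, nat_lit 4, nat_lit 5, nat_lit 7, nat_lit 0, nat_lit 1, nat_lit 2, nat_lit 3, nat_lit 4, nat_lit 5, nat_lit 7, nat_lit 0, nat_lit 1, nat_lit 2, nat_lit 3, nat_lit 4, nat_lit 5, nat_lit 7, nat_lit 0, nat_lit 1, nat_lit 2, nat_lit 3, nat_lit 4, nat_lit 5, nat_lit 7, nat_lit 0, nat_lit 1, nat_lit 2, nat_lit 3, nat_lit 4, nat_lit 5, nat_lit 7, nat_lit 0, nat_lit 1, nat_lit 2, nat_lit 3, nat_lit 4, nat_lit 5, nat_lit 7, nat_lit 0, nat_lit 1, nat_lit 2, nat_lit 3]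
def Wt_216_218 (j : ℕ) : List ℕ := bif Nat.blt j 217 then [nat_lit 63, nat_lit 5, nat_lit 4, nat_lit 3, nat_lit 2, nat_lit 1, nat_lit 0, nat_lit 7, nat_lit 5, nat_lit 4, nat_lit 3, nat_lit 2, nat_lit 1, nat_lit 0, nat_lit 7, nat_lit 5, nat_lit 4, nat_lit 3, nat_lit 2, nat_lit 1, nat_lit 0, nat_lit 7, nat_lit 5, nat_lit 4, nat_lit 3, nat_lit 2, nat_lit 1, nat_lit 0, nat_lit 7, nat_lit 5, nat_lit 4, nat_lit 3, nat_lit 2, nat_lit 1, nat_lit 0, nat_lit 7, nat_lit 5, nat_lit 4, nat_lit 3, nat_lit 2, nat_lit 1, nat_lit 0, nat_lit 7, nat_lit 5, nat_lit 4, nat_lit 3, nat_lit 2, nat_lit 1, nat_lit 0, nat_lit 7, nat_lit 5, nat_lit 4, nat_lit 3, nat_lit 2, nat_lit 1, nat_lit 0, nat_lit 7, nat_lit 5, nat_lit 4, nat_lit 3, nat_lit 2, nat_lit 1, nat_lit 0, nat_lit 7] else [nat_lit 3, nat_lit 2, nat_lit 1, nat_lit 3, nat_lit 4, nat_lit 5, nat_lit 3, nat_lit 7, nat_lit 8, nat_lit 3, nat_lit 2, nat_lit 1, nat_lit 3, nat_lit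 4, nat_lit 5, nat_lit 3, nat_lit 7, nat_lit 8, nat_lit 3, nat_lit 2, nat_lit 1, nat_lit 3, nat_lit 4, nat_lit 5, nat_lit 3, nat_lit 7, nat_lit 8, nat_lit 3, nat_lit 2, nat_lit 1, nat_lit 3, nat_lit 4, nat_lit 5, nat_lit 3, nat_lit 7, nat_lit 8, nat_lit 3, nat_lit 2, nat_lit 1, nat_lit 3, nat_lit 4, nat_lit 5, nat_lit 3, nat_lit 7, nat_lit 8, nat_lit 3, nat_lit 2, nat_lit 1, nat_lit 3, nat_lit 4, nat_lit 5, nat_lit 3, nat_lit 7, nat_lit 8, nat_lit 3, nat_lit 2, nat_lit 1, nat_lit 3, nat_lit 4, nat_lit 5, nat_lit 3, nat_lit 7, nat_lit 8, nat_lit 3, nat_lit 2, nat_lit 1, nat_lit 3, nat_lit 4, nat_lit 5, nat_lit 3, nat_lit 7, nat_lit 8, nat_lit 3, nat_lit 2, nat_lit 1, nat_lit 3, nat_lit 4, nat_lit 5, nat_lit 3, nat_lit 7, nat_lit 8, nat_lit 3, nat_lit 2, nat_lit 1, nat_lit 3, nat_lit 4, nat_lit 5, nat_lit 3, nat_lit 7, nat_lit 8]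
def Wt_214_218 (j : ℕ) : List ℕ := bif Nat.blt j 216 then (Wt_214_216 j) else (Wt_216_218 j)
def Wt_210_218 (j : ℕ) : List ℕ := bif Nat.blt j 214 then (Wt_210_214 j) else (Wt_214_218 j)
def Wt_203_218 (j : ℕ) : List ℕ := bif Nat.blt j 210 then (Wt_203_210 j) else (Wt_210_218 j)
def Wt_219_221 (j : ℕ) : List ℕ := bif Nat.blt j 220 then [nat_lit 2, nat_lit 3, nat_lit 4, nat_lit 5, nat_lit 7, nat_lit 0, nat_lit 1, nat_lit 2, nat_lit 3, nat_lit 4, nat_lit 5, nat_lit 7, nat_lit 0, nat_lit 1, nat_lit 2, nat_lit 3, nat_lit 4, nat_lit 5, nat_lit 7, nat_lit 0, nat_lit 1, nat_lit 2, nat_lit 3, nat_lit 4, nat_lit 5, nat_lit 7, nat_lit 0, nat_lit 1, nat_lit 2, nat_lit 3, nat_lit 4, nat_lit 5, nat_lit 7, nat_lit 0, nat_lit 1, nat_lit 2, nat_lit 3, nat_lit 4, nat_lit 5, nat_lit 7, nat_lit 0, nat_lit 1, nat_lit 2, nat_lit 3, nat_lit 4, nat_lit 5, nat_lit 7, nat_lit 0, nat_lit 1, nat_lit 2, nat_lit 3, nat_lit 4, nat_lit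 5, nat_lit 7, nat_lit 0, nat_lit 1, nat_lit 2, nat_lit 3, nat_lit 4, nat_lit 5, nat_lit 7, nat_lit 0, nat_lit 1] else [nat_lit 4, nat_lit 5, nat_lit 3, nat_lit 7, nat_lit 8, nat_lit 3, nat_lit 2, nat_lit 1, nat_lit 3, nat_lit 4, nat_lit 5, nat_lit 3, nat_lit 7, nat_lit 8, nat_lit 3, nat_lit 2, nat_lit 1, nat_lit 3, nat_lit 4, nat_lit 5, nat_lit 3, nat_lit 7, nat_lit 8, nat_lit 3, nat_lit 2, nat_lit 1, nat_lit 3, nat_lit 4, nat_lit 5, nat_lit 3, nat_lit 7, nat_lit 8, nat_lit 3, nat_lit 2, nat_lit 1, nat_lit 3, nat_lit 4, nat_lit 5, nat_lit 3, nat_lit 7, nat_lit 8, nat_lit 3, nat_lit 2, nat_lit 1, nat_lit 3, nat_lit 4, nat_lit 5, nat_lit 3, nat_lit 7, nat_lit 8, nat_lit 3, nat_lit 2, nat_lit 1, nat_lit 3, nat_lit 4, nat_lit 5, nat_lit 3, nat_lit 7, nat_lit 8, nat_lit 3, nat_lit 2, nat_lit 1, nat_lit 3, nat_lit 4, nat_lit 5, nat_lit 3, nat_lit 7, nat_lit 8, nat_lit 3, nat_lit 2, nat_lit 1, nat_lit 3, nat_lit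 4, nat_lit 5, nat_lit 3, nat_lit 7, nat_lit 8, nat_lit 3, nat_lit 2, nat_lit 1, nat_lit 3, nat_lit 4, nat_lit 5, nat_lit 3, nat_lit 7, nat_lit 8, nat_lit 3, nat_lit 2, nat_lit 1, nat_lit 3]
def Wt_218_221 (j : ℕ) : List ℕ := bif Nat.blt j 219 then [nat_lit 3, nat_lit 4, nat_lit 5, nat_lit 7, nat_lit 0, nat_lit 1, nat_lit 2, nat_lit 3, nat_lit 4, nat_lit 5, nat_lit 7, nat_lit 0, nat_lit 1, nat_lit 2, nat_lit 3, nat_lit 4, nat_lit 5, nat_lit 7, nat_lit 0, nat_lit 1, nat_lit 2, nat_lit 3, nat_lit 4, nat_lit 5, nat_lit 7, nat_lit 0, nat_lit 1, nat_lit 2, nat_lit 3, nat_lit 4, nat_lit 5, nat_lit 7, nat_lit 0, nat_lit 1, nat_lit 2, nat_lit 3, nat_lit 4, nat_lit 5, nat_lit 7, nat_lit 0, nat_lit 1, nat_lit 2, nat_lit 3, nat_lit 4, nat_lit 5, nat_lit 7, nat_lit 0, nat_lit 1, nat_lit 2, nat_lit 3, nat_lit 4, nat_lit 5, nat_lit 7, nat_lit 0, nat_lit 1, nat_lit 2, nat_lit 3, nat_lit 4, nat_lit 5, nat_lit 7, nat_lit 0,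 nat_lit 1, nat_lit 2] else (Wt_219_221 j)
def Wt_221_223 (j : ℕ) : List ℕ := bif Nat.blt j 222 then [nat_lit 63, nat_lit 63, nat_lit 5, nat_lit 63, nat_lit 5] else [nat_lit 63, nat_lit 0, nat_lit 63, nat_lit 0, nat_lit 63]
def Wt_223_225 (j : ℕ) : List ℕ := bif Nat.blt j 224 then [nat_lit 63, nat_lit 8, nat_lit 0, nat_lit 8, nat_lit 0] else [nat_lit 63, nat_lit 1, nat_lit 0, nat_lit 1, nat_lit 0, nat_lit 1, nat_lit 0]
def Wt_221_225 (j : ℕ) : List ℕ := bif Nat.blt j 223 then (Wt_221_223 j) else (Wt_223_225 j)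
def Wt_218_225 (j : ℕ) : List ℕ := bif Nat.blt j 221 then (Wt_218_221 j) else (Wt_221_225 j)
def Wt_225_227 (j : ℕ) : List ℕ := bif Nat.blt j 226 then [nat_lit 2, nat_lit 1, nat_lit 3, nat_lit 4, nat_lit 5, nat_lit 3, nat_lit 7, nat_lit 8, nat_lit 3, nat_lit 2, nat_lit 1, nat_lit 3, nat_lit 4, nat_lit 5, nat_lit 3, nat_lit 7, nat_lit 8, nat_lit 3, nat_lit 2, nat_lit 1, nat_lit 3, nat_lit 4, nat_lit 5, nat_lit 3, nat_lit 7, nat_lit 8, nat_lit 3, nat_lit 2, nat_lit 1, nat_lit 3, nat_lit 4, nat_lit 5, nat_lit 3, nat_lit 7, nat_lit 8, nat_lit 3, nat_lit 2, nat_lit 1, nat_lit 3, nat_lit 4, nat_lit 5, nat_lit 3, nat_lit 7, nat_lit 8, nat_lit 3, nat_lit 2, nat_lit 1, nat_lit 3, nat_lit 4, nat_lit 5, nat_lit 3, nat_lit 7, nat_lit 8, nat_lit 3, nat_lit 2, nat_lit 1, nat_lit 3, nat_lit 4, nat_lit 5, nat_lit 3, nat_lit 7, nat_lit 8, nat_lit 3, nat_lit 2, nat_lit 1, nat_lit 3, nat_lit 4, nat_lit 5, nat_lit 3, nat_lit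 7, nat_lit 8, nat_lit 3, nat_lit 2, nat_lit 1, nat_lit 3, nat_lit 4, nat_lit 5, nat_lit 3, nat_lit 7, nat_lit 8, nat_lit 3, nat_lit 2, nat_lit 1, nat_lit 3, nat_lit 4, nat_lit 5, nat_lit 3, nat_lit 7, nat_lit 8, nat_lit 3] else [nat_lit 63, nat_lit 9, nat_lit 0, nat_lit 1, nat_lit 2, nat_lit 3, nat_lit 4, nat_lit 7, nat_lit 0, nat_lit 1, nat_lit 2, nat_lit 3, nat_lit 4, nat_lit 7, nat_lit 0, nat_lit 1, nat_lit 2, nat_lit 3, nat_lit 4, nat_lit 7, nat_lit 0, nat_lit 1, nat_lit 2, nat_lit 3, nat_lit 4, nat_lit 7, nat_lit 0, nat_lit 1, nat_lit 2, nat_lit 3, nat_lit 4, nat_lit 7]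
def Wt_227_229 (j : ℕ) : List ℕ := bif Nat.blt j 228 then [nat_lit 5, nat_lit 3, nat_lit 7, nat_lit 8, nat_lit 3, nat_lit 2, nat_lit 1, nat_lit 3, nat_lit 4, nat_lit 5, nat_lit 3, nat_lit 7, nat_lit 8, nat_lit 3, nat_lit 2, nat_lit 1, nat_lit 3, nat_lit 4, nat_lit 5, nat_lit 3, nat_lit 7, nat_lit 8, nat_lit 3, nat_lit 2, nat_lit 1, nat_lit 3, nat_lit 4, nat_lit 5, nat_lit 3, nat_lit 7, nat_lit 8, nat_lit 3, nat_lit 2, nat_lit 1, nat_lit 3, nat_lit 4, nat_lit 5, nat_lit 3, nat_lit 7, nat_lit 8, nat_lit 3, nat_lit 2, nat_lit 1, nat_lit 3, nat_lit 4, nat_lit 5, nat_lit 3, nat_lit 7, nat_lit 8, nat_lit 3, nat_lit 2, nat_lit 1, nat_lit 3, nat_lit 4, nat_lit 5, nat_lit 3, nat_lit 7, nat_lit 8, nat_lit 3, nat_lit 2, nat_lit 1, nat_lit 3, nat_lit 4, nat_lit 5, nat_lit 3, nat_lit 7, nat_lit 8, nat_lit 3, nat_lit 2, nat_lit 1, nat_lit 3, nat_lit 4, nat_lit 5, nat_lit 3, nat_lit 7, nat_lit 8, nat_lit 3, nat_lit 2, nat_lit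 1, nat_lit 3, nat_lit 4, nat_lit 5, nat_lit 3, nat_lit 7, nat_lit 8, nat_lit 3, nat_lit 2, nat_lit 1, nat_lit 3, nat_lit 4] else [nat_lit 63, nat_lit 7, nat_lit 4, nat_lit 3, nat_lit 2, nat_lit 1, nat_lit 0, nat_lit 7, nat_lit 4, nat_lit 3, nat_lit 2, nat_lit 1, nat_lit 0, nat_lit 7, nat_lit 4, nat_lit 3, nat_lit 2, nat_lit 1, nat_lit 0, nat_lit 7, nat_lit 4, nat_lit 3, nat_lit 2, nat_lit 1, nat_lit 0, nat_lit 7, nat_lit 4, nat_lit 3, nat_lit 2, nat_lit 1, nat_lit 0, nat_lit 10]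
def Wt_225_229 (j : ℕ) : List ℕ := bif Nat.blt j 227 then (Wt_225_227 j) else (Wt_227_229 j)
def Wt_229_231 (j : ℕ) : List ℕ := bif Nat.blt j 230 then [nat_lit 7, nat_lit 8, nat_lit 3, nat_lit 2, nat_lit 1, nat_lit 3, nat_lit 4, nat_lit 5, nat_lit 3, nat_lit 7, nat_lit 8, nat_lit 3, nat_lit 2, nat_lit 1, nat_lit 3, nat_lit 4, nat_lit 5, nat_lit 3, nat_lit 7, nat_lit 8, nat_lit 3, nat_lit 2, nat_lit 1, nat_lit 3, nat_lit 4, nat_lit 5, nat_lit 3, nat_lit 7, nat_lit 8, nat_lit 3, nat_lit 2, nat_lit 1, nat_lit 3, nat_lit 4, nat_lit 5, nat_lit 3, nat_lit 7, nat_lit 8, nat_lit 3, nat_lit 2, nat_lit 1, nat_lit 3, nat_lit 4, nat_lit 5, nat_lit 3, nat_lit 7, nat_lit 8, nat_lit 3, nat_lit 2, nat_lit 1, nat_lit 3, nat_lit 4, nat_lit 5, nat_lit 3, nat_lit 7, nat_lit 8, nat_lit 3, nat_lit 2, nat_lit 1, nat_lit 3, nat_lit 4, nat_lit 5, nat_lit 3, nat_lit 7, nat_lit 8, nat_lit 3, nat_lit 2, nat_lit 1, nat_lit 3, nat_lit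 4, nat_lit 5, nat_lit 3, nat_lit 7, nat_lit 8, nat_lit 3, nat_lit 2, nat_lit 1, nat_lit 3, nat_lit 4, nat_lit 5, nat_lit 3, nat_lit 7, nat_lit 8, nat_lit 3, nat_lit 2, nat_lit 1, nat_lit 3, nat_lit 4, nat_lit 5, nat_lit 3] else [nat_lit 8, nat_lit 3, nat_lit 2, nat_lit 1, nat_lit 3, nat_lit 4, nat_lit 5, nat_lit 3, nat_lit 7, nat_lit 8, nat_lit 3, nat_lit 2, nat_lit 1, nat_lit 3, nat_lit 4, nat_lit 5, nat_lit 3, nat_lit 7, nat_lit 8, nat_lit 3, nat_lit 2, nat_lit 1, nat_lit 3, nat_lit 4, nat_lit 5, nat_lit 3, nat_lit 7, nat_lit 8, nat_lit 3, nat_lit 2, nat_lit 1, nat_lit 3, nat_lit 4, nat_lit 5, nat_lit 3, nat_lit 7, nat_lit 8, nat_lit 3, nat_lit 2, nat_lit 1, nat_lit 3, nat_lit 4, nat_lit 5, nat_lit 3, nat_lit 7, nat_lit 8, nat_lit 3, nat_lit 2, nat_lit 1, nat_lit 3, nat_lit 4, nat_lit 5, nat_lit 3, nat_lit 7, nat_lit 8, nat_lit 3, nat_lit 2, nat_lit 1, nat_lit 3, nat_lit 4, nat_lit 5, nat_lit 3, nat_lit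 7, nat_lit 8, nat_lit 3, nat_lit 2, nat_lit 1, nat_lit 3, nat_lit 4, nat_lit 5, nat_lit 3, nat_lit 7, nat_lit 8, nat_lit 3, nat_lit 2, nat_lit 1, nat_lit 3, nat_lit 4, nat_lit 5, nat_lit 3, nat_lit 7, nat_lit 8, nat_lit 3, nat_lit 2, nat_lit 1, nat_lit 3, nat_lit 4, nat_lit 5, nat_lit 3, nat_lit 7]
def Wt_231_233 (j : ℕ) : List ℕ := bif Nat.blt j 232 then [nat_lit 63, nat_lit 7, nat_lit 6, nat_lit 5, nat_lit 4, nat_lit 3, nat_lit 2, nat_lit 1, nat_lit 7, nat_lit 6, nat_lit 5, nat_lit 4, nat_lit 3, nat_lit 2, nat_lit 1, nat_lit 7, nat_lit 6, nat_lit 5, nat_lit 4, nat_lit 3, nat_lit 2, nat_lit 1, nat_lit 7, nat_lit 6, nat_lit 5, nat_lit 4, nat_lit 3, nat_lit 2, nat_lit 1, nat_lit 7, nat_lit 6, nat_lit 5, nat_lit 4, nat_lit 3, nat_lit 2, nat_lit 1, nat_lit 7, nat_lit 6, nat_lit 5, nat_lit 4, nat_lit 3, nat_lit 2, nat_lit 1, nat_lit 7, nat_lit 6, nat_lit 5, nat_lit 4, nat_lit 3, nat_lit 2, nat_lit 1, nat_lit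 7, nat_lit 6, nat_lit 5, nat_lit 4, nat_lit 3, nat_lit 2, nat_lit 1, nat_lit 7, nat_lit 6, nat_lit 5, nat_lit 4, nat_lit 3, nat_lit 2, nat_lit 1] else [nat_lit 63, nat_lit 5, nat_lit 4, nat_lit 3, nat_lit 2, nat_lit 1, nat_lit 7, nat_lit 6, nat_lit 5, nat_lit 4, nat_lit 3, nat_lit 2, nat_lit 1, nat_lit 7, nat_lit 6, nat_lit 5, nat_lit 4, nat_lit 3, nat_lit 2, nat_lit 1, nat_lit 7, nat_lit 6, nat_lit 5, nat_lit 4, nat_lit 3, nat_lit 2, nat_lit 1, nat_lit 7, nat_lit 6, nat_lit 5, nat_lit 4, nat_lit 3, nat_lit 2, nat_lit 1, nat_lit 7, nat_lit 6, nat_lit 5, nat_lit 4, nat_lit 3, nat_lit 2, nat_lit 1, nat_lit 7, nat_lit 6, nat_lit 5, nat_lit 4, nat_lit 3, nat_lit 2, nat_lit 1, nat_lit 7, nat_lit 6, nat_lit 5, nat_lit 4, nat_lit 3, nat_lit 2, nat_lit 1, nat_lit 7, nat_lit 6, nat_lit 5, nat_lit 4, nat_lit 3, nat_lit 2, nat_lit 1, nat_lit 7, nat_lit 6]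
def Wt_229_233 (j : ℕ) : List ℕ := bif Nat.blt j 231 then (Wt_229_231 j) else (Wt_231_233 j)
def Wt_225_233 (j : ℕ) : List ℕ := bif Nat.blt j 229 then (Wt_225_229 j) else (Wt_229_233 j)
def Wt_218_233 (j : ℕ) : List ℕ := bif Nat.blt j 225 then (Wt_218_225 j) else (Wt_225_233 j)
def Wt_203_233 (j : ℕ) : List ℕ := bif Nat.blt j 218 then (Wt_203_218 j) else (Wt_218_233 j)
def Wt_174_233 (j : ℕ) : List ℕ := bif Nat.blt j 203 then (Wt_174_203 j) else (Wt_203_233 j)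
def Wt_116_233 (j : ℕ) : List ℕ := bif Nat.blt j 174 then (Wt_116_174 j) else (Wt_174_233 j)
def Wt_0_233 (j : ℕ) : List ℕ := bif Nat.blt j 116 then (Wt_0_116 j) else (Wt_116_233 j)
def Wt (j : ℕ) : List ℕ := (Wt_0_233 j)
def W (j : ℕ) : List ℕ := bif Nat.blt j 233 then Wt j else []
theorem W_ge (j : ℕ) (h : 233 ≤ j) : W j = [] := by
  unfold W
  rw [blt_false_of_le h]
  rfl
def Hl : List ℕ := [nat_lit 0, nat_lit 2, nat_lit 3, nat_lit 4, nat_lit 5, nat_lit 6, nat_lit 7, nat_lit 8, nat_lit 9]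
def isH (y : ℕ) : Bool := List.elem y Hl
def Rb : List (List ℕ) := [[nat_lit 0, nat_lit 0],
  [nat_lit 1, nat_lit 0, nat_lit 1, nat_lit 0, nat_lit 1, nat_lit 0],
  [nat_lit 2, nat_lit 0, nat_lit 2, nat_lit 0],
  [nat_lit 3, nat_lit 0, nat_lit 3, nat_lit 0],
  [nat_lit 4, nat_lit 0, nat_lit 4, nat_lit 0],
  [nat_lit 5, nat_lit 0, nat_lit 5, nat_lit 0],
  [nat_lit 6, nat_lit 0, nat_lit 6, nat_lit 0],
  [nat_lit 7, nat_lit 0, nat_lit 7, nat_lit 0],
  [nat_lit 8, nat_lit 0, nat_lit 8, nat_lit 0],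
  [nat_lit 1, nat_lit 1],
  [nat_lit 2, nat_lit 1, nat_lit 2, nat_lit 1, nat_lit 2, nat_lit 1],
  [nat_lit 3, nat_lit 1, nat_lit 3, nat_lit 1],
  [nat_lit 4, nat_lit 1, nat_lit 4, nat_lit 1],
  [nat_lit 5, nat_lit 1, nat_lit 5, nat_lit 1],
  [nat_lit 6, nat_lit 1, nat_lit 6, nat_lit 1],
  [nat_lit 7, nat_lit 1, nat_lit 7, nat_lit 1],
  [nat_lit 8, nat_lit 1, nat_lit 8, nat_lit 1],
  [nat_lit 2, nat_lit 2],
  [nat_lit 3, nat_lit 2, nat_lit 3, nat_lit 2, nat_lit 3, nat_lit 2],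
  [nat_lit 4, nat_lit 2, nat_lit 4, nat_lit 2],
  [nat_lit 5, nat_lit 2, nat_lit 5, nat_lit 2],
  [nat_lit 6, nat_lit 2, nat_lit 6, nat_lit 2],
  [nat_lit 7, nat_lit 2, nat_lit 7, nat_lit 2],
  [nat_lit 8, nat_lit 2, nat_lit 8, nat_lit 2],
  [nat_lit 3, nat_lit 3],
  [nat_lit 4, nat_lit 3, nat_lit 4, nat_lit 3, nat_lit 4, nat_lit 3],
  [nat_lit 5, nat_lit 3, nat_lit 5, nat_lit 3],
  [nat_lit 6, nat_lit 3, nat_lit 6, nat_lit 3],
  [nat_lit 7, nat_lit 3, nat_lit 7, nat_lit 3, nat_lit 7, nat_lit 3],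
  [nat_lit 8, nat_lit 3, nat_lit 8, nat_lit 3],
  [nat_lit 4, nat_lit 4],
  [nat_lit 5, nat_lit 4, nat_lit 5, nat_lit 4, nat_lit 5, nat_lit 4],
  [nat_lit 6, nat_lit 4, nat_lit 6, nat_lit 4],
  [nat_lit 7, nat_lit 4, nat_lit 7, nat_lit 4],
  [nat_lit 8, nat_lit 4, nat_lit 8, nat_lit 4],
  [nat_lit 5, nat_lit 5],
  [nat_lit 6, nat_lit 5, nat_lit 6, nat_lit 5, nat_lit 6, nat_lit 5],
  [nat_lit 7, nat_lit 5, nat_lit 7, nat_lit 5],
  [nat_lit 8, nat_lit 5, nat_lit 8, nat_lit 5],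
  [nat_lit 6, nat_lit 6],
  [nat_lit 7, nat_lit 6, nat_lit 7, nat_lit 6],
  [nat_lit 8, nat_lit 6, nat_lit 8, nat_lit 6],
  [nat_lit 7, nat_lit 7],
  [nat_lit 8, nat_lit 7, nat_lit 8, nat_lit 7, nat_lit 8, nat_lit 7],
  [nat_lit 8, nat_lit 8],
  [nat_lit 8, nat_lit 7, nat_lit 3, nat_lit 5, nat_lit 4, nat_lit 3, nat_lit 1, nat_lit 2, nat_lit 3, nat_lit 8, nat_lit 7, nat_lit 3, nat_lit 5, nat_lit 4, nat_lit 3, nat_lit 1, nat_lit 2, nat_lit 3, nat_lit 8, nat_lit 7, nat_lit 3, nat_lit 5, nat_lit 4, nat_lit 3, nat_lit 1, nat_lit 2, nat_lit 3, nat_lit 8, nat_lit 7, nat_lit 3, nat_lit 5, nat_lit 4, nat_lit 3, nat_lit 1, nat_lit 2, nat_lit 3, nat_lit 8, nat_lit 7, nat_lit 3, nat_lit 5, nat_lit 4, nat_lit 3, nat_lit 1, nat_lit 2, nat_lit 3, nat_lit 8, nat_lit 7, nat_lit 3, nat_lit 5, nat_lit 4, nat_lit 3, nat_lit 1, nat_lit 2, nat_lit 3, nat_lit 8, nat_lit 7, nat_lit 3, nat_lit 5, nat_lit 4, nat_lit 3, nat_lit 1,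 nat_lit 2, nat_lit 3, nat_lit 8, nat_lit 7, nat_lit 3, nat_lit 5, nat_lit 4, nat_lit 3, nat_lit 1, nat_lit 2, nat_lit 3, nat_lit 8, nat_lit 7, nat_lit 3, nat_lit 5, nat_lit 4, nat_lit 3, nat_lit 1, nat_lit 2, nat_lit 3, nat_lit 8, nat_lit 7, nat_lit 3, nat_lit 5, nat_lit 4, nat_lit 3, nat_lit 1, nat_lit 2, nat_lit 3],
  [nat_lit 7, nat_lit 5, nat_lit 4, nat_lit 3, nat_lit 2, nat_lit 1, nat_lit 0, nat_lit 7, nat_lit 5, nat_lit 4, nat_lit 3, nat_lit 2, nat_lit 1, nat_lit 0, nat_lit 7, nat_lit 5, nat_lit 4, nat_lit 3, nat_lit 2, nat_lit 1, nat_lit 0, nat_lit 7, nat_lit 5, nat_lit 4, nat_lit 3, nat_lit 2, nat_lit 1, nat_lit 0, nat_lit 7, nat_lit 5, nat_lit 4, nat_lit 3, nat_lit 2, nat_lit 1, nat_lit 0, nat_lit 7, nat_lit 5, nat_lit 4, nat_lit 3, nat_lit 2, nat_lit 1, nat_lit 0, nat_lit 7, nat_lit 5, nat_lit 4, nat_lit 3, nat_lit 2, nat_lit 1, nat_lit 0, nat_lit 7, nat_lit 5, nat_lit 4, nat_lit 3, nat_lit 2, nat_lit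 1, nat_lit 0, nat_lit 7, nat_lit 5, nat_lit 4, nat_lit 3, nat_lit 2, nat_lit 1, nat_lit 0],
  [nat_lit 7, nat_lit 6, nat_lit 5, nat_lit 4, nat_lit 3, nat_lit 2, nat_lit 1, nat_lit 7, nat_lit 6, nat_lit 5, nat_lit 4, nat_lit 3, nat_lit 2, nat_lit 1, nat_lit 7, nat_lit 6, nat_lit 5, nat_lit 4, nat_lit 3, nat_lit 2, nat_lit 1, nat_lit 7, nat_lit 6, nat_lit 5, nat_lit 4, nat_lit 3, nat_lit 2, nat_lit 1, nat_lit 7, nat_lit 6, nat_lit 5, nat_lit 4, nat_lit 3, nat_lit 2, nat_lit 1, nat_lit 7, nat_lit 6, nat_lit 5, nat_lit 4, nat_lit 3, nat_lit 2, nat_lit 1, nat_lit 7, nat_lit 6, nat_lit 5, nat_lit 4, nat_lit 3, nat_lit 2, nat_lit 1, nat_lit 7, nat_lit 6, nat_lit 5, nat_lit 4, nat_lit 3, nat_lit 2, nat_lit 1, nat_lit 7, nat_lit 6, nat_lit 5, nat_lit 4, nat_lit 3, nat_lit 2, nat_lit 1],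
  [nat_lit 7, nat_lit 4, nat_lit 3, nat_lit 2, nat_lit 1, nat_lit 0, nat_lit 7, nat_lit 4, nat_lit 3, nat_lit 2, nat_lit 1, nat_lit 0, nat_lit 7, nat_lit 4, nat_lit 3, nat_lit 2, nat_lit 1, nat_lit 0, nat_lit 7, nat_lit 4, nat_lit 3, nat_lit 2, nat_lit 1, nat_lit 0, nat_lit 7, nat_lit 4, nat_lit 3, nat_lit 2, nat_lit 1, nat_lit 0, nat_lit 10],
  []]
def spT_0_2 (j : ℕ) : ℕ := bif Nat.blt j 1 then nat_lit 0x220000003c000020320000004200000046000000460000203e0000000a000000280000001a0000205c0000004a00000030000020180000003c0000201e00002024000020140000001200000062000000120000207600000054000000000000000e000000080000000600000004000000020000001e00000018000020040000002c00000026000000500000204000002044000000600000203a0000203600002034000000320000002400000016000360600000202e0000202c0000202a000020280000202600000014000020100000200e0000200c0000200a000020080000200600002002000020200000201e0000201c0000201a0000201800002016 else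 nat_lit 0x4c000000100000004c0000003800002038000000080000200e00002042000020340000805c00000076000000060000000e00000054000000000000001600000024000000520000003a000000580000203a000020560000201600000056000000440000002e000000200000205a0000202a0000201c00002050000020480000203e00002032000000420000004a000000500000001e00000030000020500000204a000020420000203800000034000000120000002a0000004e0000001c000020520000004800000040000000360000002a0000001c0000405e0000204c000000320000001200000022000000300000003e00000030000020140000003e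
def spT_2_4 (j : ℕ) : ℕ := bif Nat.blt j 3 then nat_lit 0x200a0000201000002044000020480000005c000020060000202e0000204c0000205e0000405c0000805e000000620000001a0000e05a000000260000a05a000020200000a05e000020400000c05e0000405c0000002c000000560000405a00000058000020040001005a000000540000004e000000580000202400000020000020760000001800000040000020260000001400000048000000540000202c0000006200000022000020020000605c000020560000003a000000380000002200000044000000280000204a0000004600000034000000580000003c0000004e000000460000003c0000003600002061000020080000000c0000201a00000000 else nat_lit 0x405e0000005e0000005b0001005b000000600000c05b000000610000405b000000020000001000000000000000460000a05b0000605d0000805d0000205b0000205c0000a05d0000405d0000005a0000405f0000c05a0000205d0000000a0000a05f000000520000805f0000200c0000004e0000005e000000040000000c0000605e00002052000020360000605c0000a05c0000805a0000605a0000002e00002028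
def spT_0_4 (j : ℕ) : ℕ := bif Nat.blt j 2 then (spT_0_2 j) else (spT_2_4 j)
def spT (j : ℕ) : ℕ := (spT_0_4 j)
def sp (j : ℕ) : ℕ := Nat.land (Nat.shiftRight (spT (Nat.shiftRight j 6)) (Nat.mul (Nat.land j 63) 32)) 4294967295
theorem Eo_lt (r : ℕ) : Eo r < 18014398509481984 := land54_lt _
def cT_1_3 (j : ℕ) : ℕ := bif Nat.blt j 2 then nat_lit 0x3100004d700041f0003a10005ab000454000b020005ac00004000034700040f00030b00035100035b00027b0013f40001fc00138d000256000ab50001010012bd0000f20001f50001ed00033200037b0014fc0004af0001ea00037e00047b000a3100055600036b00015b00008500131a001b900012750007520006570013cc0007ea0004100010780017520011ff000179000f7a00091700074d00004a0009160002d50008790004c90009fd00005800016900031d00013700007a0003840003000001470002660000e20002110008cb00064e000044000751000048000caf0002fb00091500019500028700087c00016500016700049e0002a200008000008200014400003a0000df0000b60005f90002e60003460004170000c30004d800041d0011f50005a700042300003c00028600003f0000d500030a0002840002750013f5000257000a5d00010200020b0003a90000f00001ee00037c0004fe0000e300047a00016a0002fd00008700003900131800132b00041400120000017b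 else nat_lit 0x5fc0005fb0000410005aa0004870014c300030c0005fa00035200042100036100049800027c00105a00138b0013c60000fa00143a000253001364000b050002170001fe0000f500021d0001000001f300033400033100063b0004ae0014fb0004b10001eb00037a000cb400047c00055400032d00036c0004eb00145200131c001b8d001274001b930012880013280006580012f40017af0012760007a4001a7000078d000697000d4b0013b7000836000cea001753000f78000fb3000888000837000f3f0004e00008780004cb000b070009d700083c0000590009c0000b0800033e0001380004bb00007b00079500046300099100007900015a00015d0003800001e9000b7e000d9100090f0007ed00064c0002ea00088e0007a5000045000c0e0006ed000750000049000c450012770008ce0001920011b1000a27000164000a5e00016600016800007f00008100005e00039a0000830001430002680000e000079b00065000004300056c0002f5000c0f0003450011fd00018d00087d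
def cT_0_3 (j : ℕ) : ℕ := bif Nat.blt j 1 then nat_lit 0x150a00017800074b00004e0002d400087a0004c700005700005500011000021300031f0001360001450000a30001170000b90000ac0008cc0003560003590003ac0000c50004da00049f0000de00042500003b00011a0000b50002e50000c000041c0001b000027400003e00002a0002850001a10013f600010300020c00010e0003680000540000360000ef0000e40004780001750000880000a10000ab00140f00017e00018500041800004f0004e10000560001130000ae00052300011b0001150000c700049d0000da00041b0000dc00009000011f00002d00019a0001ae0001aa00000e0000d200019b00010400010d0002d30000350000ee0000e50000890000a000018000005000041900011400009200013300001b0000db0001b50000100000be00000d00002600010c00016f0000340000e600002f00005300027100001100001a00002000002400000a00017000001200001500001d00009a00000900003000001300008a000005000014000004000003000002000001000000 else (cT_1_3 j)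
def cT_3_5 (j : ℕ) : ℕ := bif Nat.blt j 4 then nat_lit 0x120a0006590012f500124a000c020012f30017b00012f2000d20000ad8000f1900063a00078b000696000b2a001443000d0d0013fb000cec00078e000698000b2d00175400118f001199000fb10008860010d4000884000792000667001a3f000c0c00087700006e000edc0004820009fb00083b0004a400057d00007400033c00013a0003710004bd000391000b3b00007c000733000465000992000159000f3e00007800051200015e000261000fb5000d8f0018040010fc00085d00075300064b0005fe0007ef000dd60007ec0006fd000be90006ee0007940015f600088a0007eb000c7c0006ec000c46000ce8001278000883000cb2000a26000163000a8d00038e00083d00005a0009c1000ab200007e00031800005c000156000f3b00032600052700005f00045c0005c00001420001e4000d9200091100098f0006ae0002e800079a0006fa0002f2000bea00072a0005260002f6000c430012430011fe00018e000a9000030f00087e0018290003a00004d3000455000aea00039b else nat_lit 0x72e0007930010c1000fca00069a000790000eda001246001a3200139b0006e9000847000c0d000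a8c000150000bb10003930009fa000b0600016100006200007d00013c00005b00066400073400032800052800006000066600013e0001400001530001e5000d23000d2400089400098e00180a000701000700000799000e9f0009900006fb000bae000bed000c3e0015ca0006f6000835000ac70007290011950014c00012440012140011b0000ae900039000083e000325000a9300039d00102e0004560006040009120006540006530005fd0006560005ad000841000b7900030d000f92000652000880000cca000e100012ae001454000edb0013c40012fb00054700105e0013630012c3000251000c470014050003bd0000f60000fc0004aa0000f90003b900033600033000157a000b4d00063c000d510004ad0009c20017270005770003f500152b00047d00037900055300032e00036e001360000fb4001388000e58001b8c0012e0001273000cc6001c67001287001b94001284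
def cT_5_7 (j : ℕ) : ℕ := bif Nat.blt j 6 then nat_lit 0xea7000c09000e57001b8b0012e5001c6a001260001271001c62000e5e000cc9001cf50012e20012ef000cc50009a3001285001b9500120b0014140013620012c60014020011e00012df00124c0014d5000c03001371001725000d1e000f18001579000bfd000adb00069500078a0016da000b29001821001248000d0b0013fd000d22000ad70015270006390006e70016d3000b2c000fe600118e00150600119a000fe7000637000df500091800109d00107f000885000b2e000669001d5b000bf100087600183c00006c000c0b000ddc000069000e4f000544000952000a21000a5f0003b5000f0900006f0000720000640004ac0003740004840010760005690006a1000f35000a5b0007320005ca00036f000b3a00014a00014d00007700015f0003c7001144000d8e000d950009540009d800070700184700085e001b6b00075500085c0006490007a20007f00008c800098a0007ee0010d10007540006f1000dd80006ef000df30011e30016770015f700083a0010d3000838000fb0 else nat_lit 0xd8600069c000e76000fcb000b37000d5f001247001a5900071b0013b10006e800168c000848000e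21000f2d00152c000bb000014b001074001a3c000a8b001198000063000f37000a2800066500013d00014e0000610001510003ad000ed2000ced0006a000089500089300070600098d000863001b06000703000cfe0015c80007f20007980006b6001498000f57000702000b3f001728000beb000c10000bee000b73000a170006f5000e9d0008330007f4000ac800116e0007280007f6001194000ae1000cee001245001a330012120008450011af000b3e0009f90006610006a20009b00006050016910006af000735000ea00006550006a90005ae00083f000843000ca9000b7700056b0010ce000913000f90000ccd000e0e0010580012ac0011110012b10013020012fd000f7c000e110013ee0014560012b6001a5a000572000f080000f70002500005700015a900063d000d52000575000641000b400003b700033900032f000a35000066000486000d7300144e00135f000f7b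
def cT_3_7 (j : ℕ) : ℕ := bif Nat.blt j 5 then (cT_3_5 j) else (cT_5_7 j)
def cT_0_7 (j : ℕ) : ℕ := bif Nat.blt j 3 then (cT_0_3 j) else (cT_3_7 j)
def cT_8_10 (j : ℕ) : ℕ := bif Nat.blt j 9 then nat_lit 0xa8a0006b70007aa000fe4000892000baf000c110009f2000ca3000bef000a16000a180008490006f40018350008320007f3000e9c000c7e000c7d000ac9000b30000e710007f50015ab0007f8000727000cb5000ae2000d2600127b0015e3001890001211000bec00154a0007e900166d0009af0006b1000606000f700006b00009f50009f8000ea5000844000b740009ad000f590006aa00185a001cd8001fde00112c00105700176c0012aa000bc5000e0d000971001304001300001a6d0012fe000f7d001cb30017870013430012b400171c0016f5000f13000d1a000571000573002133000e39000d750013e00014530012b2000ee9000e140019550008f50012a8000ee500062b00125b00125e001c6b001261000c06000e12001129000e000012e3000bc70012660012ed001c61000cc30026110016650009a200146b001324001cf40009a400120c0009a60012820011160014320012c7000f40000f41000cd700130e001c8500124d001400000c040012de001423001a5b000642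 else nat_lit 0x10160011cb000edf000ab9000e50000dc3001693000c1e000e1b00120e000ea8000dbd002653001bf7001c7f000873000f430008c0000d94000abc0017e7000efb000b52000c8700101000086b000fb60007090014e7000c05000ef9001b690009dd0014e800183d000efd001170001c91001e1800085a00090b0015d0001519000647000cc2001c5c001717000950000633000df40010fd000b090015b80006310009930007a8000db300082f00082d000ab700076200202a0009880010b90011660011e5000a14001c420015f9000be8001f2e000c19000a1e0011cf0008c5000c16000730000c14001650000c37000c39001014001490001492001788001614000fe80011c500101200069d000d87000d5e000d96001297001bec0019b000071c0015e100071a0013320012910017a7000ef5000acb000e1f000e23000f2f000e4e000dda001c73000e1d001cea0017e60008be00069f000869000ed100075a0007e70009aa00060900086500060b00070500089700086100060d0015c7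
def cT_7_10 (j : ℕ) : ℕ := bif Nat.blt j 8 then nat_lit 0xd58000f170017ca0015a80007890026d50011df000b270006940016a3000c260016270016de001295001d3d00181a0013ec001290000d5c0011510015a5000bfc000ad50018200011f20006e60016d900174a00066e000a690017a600118a000d4800063800150400113b000dbf000636000dc100104300107b00165100285000107e0010810008d000103f00066c00066a0015cd000bf2000acc00164f000c0a0011e6000ddd000ede000aba000ddb000dc0000951000a20000ab6001372000edd00007100006500006b000375000f3400048500006800033a0003b6001ce9000874000d8d000dbe000d5d00063f00095500086a00100e0014740007080015f4001c8e000953001b6a001a5d0007570017eb00086000085b000648000cfa0019e6000a89000ddf0008c60011850007a900091d0010d00007e80007a60006f2000a600006f0000dd90010790009890011670011e4000a150019240015f8000919000c1700083900073100109c00072f000e7a001013000c3a001491000b39 else (cT_8_10 j)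
def cT_10_12 (j : ℕ) : ℕ := bif Nat.blt j 11 then nat_lit 0x62c00126f001263000e49001951000b19000a070008f30012a9000e60000bc60008de001267001265001cdd0012ec0008d6001d62001cd7000cf60026130011270009a100147300148600129d001323001e470016660014880013a80009a80009a500128100206a0010e60012c80012b3000a6c00176d001c8600125a00124e001cd3001449000d170011e200130c0012dd001424001117000d1b000f15000f04000f440022540007880021e60006930011ee000962000964000c270016a2000b260016250011560016dd0016df000ccf000d57001d3c000cd50018190012a000129b00214a0011520014b7000871000ad400114f000d110006e5001de2000a7e001bce0011f100066f000c250007fe001d590017a4001ce2000ebe000d4700119c001bb0001022000cdb00113a0014ba000a6a0011b300063500064300162d000e52000983000e980010d9002185001633001831000c2d0008d3000fe00006be00066d00066b000cf400203a001ab100170b000779000bd10011e7000ea9 else nat_lit 0x7190013220013cf001e8400187b002427001a34001d54000bd2001864000e24000f300016920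026510011c000095f00069e000b51001a3b000f4d000d270007e6000868000f490008990009a900166900193800060e00060c00151a0017fc00193300075b000b4f00060a0007ab0009570014fd0007610027a90009f10006bb0006b800084a000866002852000c3000106a000831001a57000bb2000c120016af0008bb000c7f000aca00148f000b710016440010f30007f9000726000cb60008bd0011f4000d250015e40015920024c20015e20018920013300012100006070009f60009f3000ca40009ab0009ae001fd6001c11001a95001056002069001b5e000e920012ce000613000615000c9400096d00093a00130500096f0013a10009720012ff000d13001cb4001093001341001eb60013440016f200086f00244a00255f000e35002067001d31001783001430000d76000eec000e290018d9001d250008f0000e3a001865000e150006260008f70012a700062900125000125d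
def cT_12_14 (j : ℕ) : ℕ := bif Nat.blt j 13 then nat_lit 0xa8300176e0006d500109a000ec1001ab80011ca000e51000d1200154d000c1f000e190024300023850011bc00213200169e001a71000f42000d140009610008c1000df6001147001986000b540008b2000bbb001a38000b0c000c88000f0a00086c0015bd000ec9000d970014e5000e4b001d5800089b000bb6000c850015c20009de0014e90017ef000efc00090a000cf5001811000859000cbe0011d0000f470015fc000efe000646001fa5000cc0000ff500171600094e0011e80006340007e4000ace000923000632000630000c1c000994000b0a000db2000bf400082e000e25001f520020ba001d1e000d7c001165000763001fdf000a13001584000689001700000fef001c43001f2d001828000c1a001068000fe1000985000987000f320008c400082c00152d001006000809001188000e6e00104500101500187a00176f0017890019f90016150011c40007fb0016a6000c15000c38000e780016cf000f4f00087200114b000dc6001889001baf00159000071e0016c5000d08 else nat_lit 0x265400084d001489001d63000853000d780012a6000e64001901000b1e000a6d0010e7001c87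00133a001259001cd40013be00124f000e61000d16000e9500146a0013650012540028510010e4000b1b0016ee0014b2000f020028570011ec0022530009630009650017b8002325000b25001624001a4c001d9d000c290011550018240016e0000bc2001cdc00069100265a000eba001896000cd400129e00071700129c000d5500214b001153000870000bf90021480023c70006e40015de00197d00158e001acb00101e00067000092d00173f0007fd0007ff001a4f00115800182a001d6400096e001de300173c001ce300197b000d45000c24000c22000ad2001021000ebd000a7f0015d90014b8000a6b001138000df7000eed000e2a000e2700078700218100207e0010a20010da002183000982000e97001d5a00270600183000068d00161f000c2c0008d4001083000fdc0006440020270006bf0006bd001fd7000cf3000da90015ae00077500077a000777000bd0001fd900161b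
def cT_10_14 (j : ℕ) : ℕ := bif Nat.blt j 12 then (cT_10_12 j) else (cT_12_14 j)
def cT_7_14 (j : ℕ) : ℕ := bif Nat.blt j 10 then (cT_7_10 j) else (cT_10_14 j)
def cT_0_14 (j : ℕ) : ℕ := bif Nat.blt j 7 then (cT_0_7 j) else (cT_7_14 j)
def cT_15_17 (j : ℕ) : ℕ := bif Nat.blt j 16 then nat_lit 0x101800117600062f00109900089c000920001b0e000b0b0018d2001db7000bf5000e260027e50016b6000764001ff800203d0027ea000a1200068a000687000b5d000922001fd4000ff0000685001f2c0024580007e300240e000924000e17000c1b0014c60009860015310009fe000eee001f30001f51002518001569002206000c9d001c410011640010050007c10018790016780006db001046000fee001770000808001cc300161600080a0007b300185d0007fc00115900082b0011c70009ec0016ce001a500017cb0015a1001cc700170f001149000dc50020b9000786002080000ad1000d2c00205a00071f000d2f002854000d070019100016c400181700071800197c00187c00191a0019bf001709001ba9000c9f000f3100154c0023a90023870007840009600017fe001e5f0019870011c10015640007e5000bb500115d000f4a000dc900193700060f00193a001ba4000f48001596001935000d2800156700089a000b50001f540026080025630006b900075c0025ce00084b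 else nat_lit 0x17390016bd00101f000ebb0011b5000df8000bf700198000190400111900244f000e2d000b1d000c9b002182000981000b1f001ce100243800270800182d001a66001dd300068c0017d800068e000c2b001622001db9001846000d7900242d0018af0006c000223b00237e0020380008af00077600077c000bbf002066000b210007740006d60006d4000e46000bcf000ec00018d7001c03001ade000ee200157c001cf8000c2000070d00276600252e002604001a1f00206b001154001a73000d150019ce000f06001f4f0008b30011d4001e55001c39000b0e002204000bbc0007c80019af001b82000bcc00104d0015bf000ec80014e0000c890016e3000d98000a82001c23000d2a000b57000c820008b1000bba000cf20016bb000fec0015c100089e001925000fb80014ea00086d0023ab0021d3001eb4000611000cbd001e85000bb7000cf0000f800008580015d3000f000015170014b0001b64001fa6000ff4000b6000064500090900094d001086000a85001e2e000acf000d60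
def cT_14_17 (j : ℕ) : ℕ := bif Nat.blt j 15 then nat_lit 0x1a610028330007ae001181001a03001a00001932000bb300111e0016ad0010070022380008ba0006bc000b7000148e00164500162c0015ad0007250007fa00115b000760000cb70008bc0009ee000f4e001593000dc700188a00095e0015910020580016c6001d510011bd001fdd001b5f001054002609001b5d000e91000612000614001c1000110e001dcb00096c0009390012d0000e3d001356001359000c95000974000f7f001d500008a6000e3f00061f00086e0025290025fc002130002086000e34001fdc00093b000616001e100008ef000d6e001b61001c8d001ac20006250018d8001b3f000a0e001d550008db000628001cd60008f80013b90012cb00142f001c1900097a00062e00139d00126e001252000e47001cb500099d0010ab00097e0008f2000e3b00196e0008dd00071300061d0012cd000bc9001269001cb60012d600070c002449001fe0002381000ff10016630020450009a0001eb9001457001fe20008510008df001346000cd2001d61001e4600084f001487 else (cT_15_17 j)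
def cT_17_19 (j : ℕ) : ℕ := bif Nat.blt j 18 then nat_lit 0x71200099c0008a700061c001608000e3c0008dc000a0500179c0012cc00146d0018a3001a8200200b002435001f3300176100204700099f000e0500165f0007cd0020bb00071400061e001e43002448001f5d001f35001d38000850001d6000205500084e000852000854000ffd00206800194f001902001aff001cbb000e7d001ca40010e800126a0012a5000a6e000e65001cd50013bd0008a00019000017b40014620012580012550012530018e9002043001600001dd50027e70009670017b7000766001899000b240011eb001ac30027e9001d9f001b230024090016e1001fd5000bc1000c8e001b8100265c0006900019e9001134000cd3001d3a000716000e33001a1c000f0f001e0f00231e0020d40022140006e300067100227200092c00092e000d3e0016c20007dc00080000153d001b99001a4e001de00017400019d7001bd7001c040011300017650023c80008e8000d3b00199600196c002049001b570006cf001b580008e600101c00158d0020780015dd001bd30016c0 else nat_lit 0x672001bd00019bb0019bd00077d001163001e31001e5d002650001ba8001d5d00078300111f0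01c55001e6000115e0023aa001e82000610001e49001ab60007810016cb000d290015650027e300075d001f55001e83001936001e480020300007b0001b7c00095b001a02000eef002145001f3b00223a0008b9002205000c9e001a09000bb400265900148d00077f000c8100229f0008130007240007b2000da7000cef00075f000b6f0009ed0009ef00157b0010f5001594000dc80015e7000f8100260600078500220f00095d00117e00262d00188c0008100024c0001cf60020560027300021ff001ddc001556001f34000b66001dca00096b000c99001dcc000977000e90001f800017e300135800145a0017940008a400062000200f002866001ffa0018ec001b1c001be2001f850021fc001b62002203001b40000d6d001d19000b64000624000ead001be8000eab00061a00108c000e67001d5600093d000618000935001ad600093800126d0012d2001c7100097f0008ee001b60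
def cT_19_21 (j : ℕ) : ℕ := bif Nat.blt j 20 then nat_lit 0xf0c000ec7000fb900200a0024b9001ef7001a65001b04000bb8000c83000cba001e86001732000e320023ac002732001b6300193d001d8d000b23001e2d00230e001f92000803000d99001177001b9600070f000e45000d6100089d001e2f000bbd0018d3001beb002064000b2000076500260b00076700194c000a1100276f0009060010b6000b5e0009e0000921001ff9001f82001c5400090800068600202e0007e100085700240f001906000925001db800110000068b0009ff001f500028590019fd001f310026810009e500216e0007730007c0001878001ae10006dc0006da000b5a0009e30015d7001fd800164000068400104700205e00263e001cc2001617001b6f0008070007c200185c0007b4000fed000feb001730000b6d00080c0008050017550009eb001cf9001c250011a30017cc0014e300111a00171000082a0018d1000bf60022dc00117c000ad0000d63000720000d2e00285a002191000d05000816002592001911000c8b001e44000c8d001d390021b4002024 else nat_lit 0x18cb001cde0011a1000927001a84001fda000b670007ce0017950026b70008e9000d3c001dd2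00199800067700194e0019f00006ce001a7f0008e70008e5002048002215001b5600101b00153c00067d000d3a0016c1000a720017370010a90022130018a5001a9e0011b6000e43000df9001b8000217e00197f001e15001903001d65000e2e000e86000e30002252002189000c9a0024360028a50027c30023af000980001dd400094a000e8b002439002408001d2000068f002012001898000855001f370028610006c10010ed0023ea001e580024fa002062000bc000212f0018b40017b50026100019c20006d800163a000a760006d00006d30018d6001c8c001be9000b13001b9a000ec300119f00252f002603001a1d001e7e001aab001e5600200200275b0024550011d50007c70008ac000b11001bb3000eaf0019d2000d36000d6a000bce0007ca001a740019d0000a780017f4000f0e001c72000e7c0008b00008b500237d000b580019d4001049000a0100089f00104c001926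
def cT_17_21 (j : ℕ) : ℕ := bif Nat.blt j 19 then (cT_17_19 j) else (cT_19_21 j)
def cT_14_21 (j : ℕ) : ℕ := bif Nat.blt j 17 then (cT_14_17 j) else (cT_17_21 j)
def cT_22_24 (j : ℕ) : ℕ := bif Nat.blt j 23 then nat_lit 0x1d1b00085600202d0007e0002410000926001a2b001e57001efc001003001e09000772001e0b0006c400194b00177b001ae0001f100006dd001ae4000e6b002357001b6c0009e4000a000020a800233d00163f0007cb001ebb0018420016fb00068300205f001dc6001cc100244d001742001e670023e60007c400104f001a310007b5001916001775001990001b330019fc0009e2000b6c001daf0009ea000804001736002212000ec6001a9f000f0d0020b6001b7f000829001e640018d0001ec800117b000d620011a2000721000d6500285b001f360024b80023fe00188600243a001912000d6700260e0021900008170025c60018fd0020ef00199f000673001e7f001bd20024440019bc000b59001e300008b60024ba001eb5001f9f00248a000782001f5600202f002032001b7d001e5c0027e20008b8001f32002516002006001d5e00078000077e00115f001ab5001f3a001f3f00198d0020340019ba001a08000b6e0007230007b1000cb900075e002246001db100095c002210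 else nat_lit 0x10510026e70006e10009280020a5002739001d490007d000113200283500263c0024880017a000204d001dd1001cc50016810006780006760019660007bd0006cd001a80001dab0017440019680022e100067c0017e5001b550008e400067e000681001ec6001a9d000e420007de001d66001b01001e66000e2f000a7000218a001db0001f8f000d42000b6a000949001ca3001f5f0026af001f0e0006c20026b5000fff001efa002063002202002201001f0b00215200260f000d400018b60010ea0022f200167f0006d2000e8e000a75000b14000ec400244e0011a00027350020db0008e2001e5a0027780020010018c600233f00155900108a0026c8000d6b00163b0007c6001e7d0019570019ac001b31000b12000dfa0006220019d3000d37001a35000d69002530000827001de4000e310023ad00271c002459001d8c001a2d000d9c00117900226d0008020009e8000e8c000e44000d9a001e4a000a770018d5001bb20018b3001e0d00076900196300090500277c0027eb00194d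
def cT_21_24 (j : ℕ) : ℕ := bif Nat.blt j 22 then nat_lit 0x117d00117f000da300080f0008120026d7002192000d04000815001f5a001e68001680001fe1001dda0020f000096a000b69001ddd001f7f001000001f0a00252c002010001b1d001f8400231a001f890020a7001d1a0008fa001b42000d6c000a74001f6700163c001d18000b6500093e001cc4001f87000934000619000937000e68000e8f00189e0008ed001f8100062300099b000a0300061b0017dd001d570017df000e41000679001a8100200d0007cc001d4f0014830008a80008a30023ef00281f001f5e002447001f5b001d5f001d37000904001b50001ae70018a4001afe001c320017e4000e6a00145b000824001872000e7e000e6600062100076f00100200126b00145900125700202c001dd60022c5001d9900189a00271e001b22002131001f83001fdb0019e8001d4c0019ea0011330020bc0007150018ea0021fd0018fe001e0e00199e002793001f040009680018bf00155e0022730022170007db001bcb001ec70006e2000801000d9b0023c5001ddf000d3f001845 else (cT_22_24 j)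
def cT_24_26 (j : ℕ) : ℕ := bif Nat.blt j 25 then nat_lit 0x2000001ebc0006820024180007b8001dc7000e8d001efd002779000d41001d3e0006c300276500177a0007b60007c5000b6b001991001b32001dc50009e9002416001ce0000ec5000828001e6500117a0007df0022de001dae001913001050000d66001a190008180018fc0021b20007be0019a000108900204c001e81000675001109002196001e5b001efb00198c00198f0008b7002033002249001b7e002515001e62001db300221100072200285c001ef9002193001ef8001f410025c2001d8e0020f1001dd9001b180020fe0009410025c0001f0900236d0008fb002139002019001b3c0023e4001d1700206c00093f001b1f001f88001d43000933001f7e00208f00189d000821001d2b0023400021b60008ec0008a900219400285e001b51001afd001ae600067a0009030008250008230018730007700022c400286400246f0026ba0019eb001d4d001f8a002777001f03001dd7001b160018c000076d0022e30018f90007da00189b001dfe0023c4001f05000969001dce0018ca else nat_lit 0x20a00022cb00201c002134001d42001e7400094200226400082000213a001b19001d160025c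10020ca001afc0009020007d3001aea0006c90028560022eb0024c600227a0018c30018c100076c00275c001fed00081e0024f80021ac001dd8001b170020e9001f060018c90020e10006e00020a40009400007d10008fc0021360022ed0023cc00221a0027c40023cd001dd00019a30026b40023ce0006cb00263d001dac0019670007bc00067b001de90019ec000680002562001d67001f190027c5002284002462001cba00094800241a001d400022c3001d120022c90028550024cf001f0d001e7a0025be0020cc0022c80021510022f10027e10009320022ca00227f001b540027340025c7002095001f17001feb001deb001f7c002305001e7c0018c50018c7001b300017db0022e40008e30023cb000826002088001a2e002226002016001b1100076a0018cd000771001e0a00081c001a0f001e0c0006c50019650006de001f0f00230f00206d001ae50026bb0020a200227e002341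
def cT_26_28 (j : ℕ) : ℕ := bif Nat.blt j 27 then nat_lit 0x6c70024ca00195e002020001d830020eb001afa0021b000277b00238300195b000943001f75001d150007d40009450018c20006c80021ba00273a001f77001f07001a160024c300209f0007d20023620008fd0022ec000901001e750024430021af00201b001afb001af70006ca001ffd0020720020740024f90007bb0021bc0027090019ed00081f00235d001d41002876001d92001d13001d960020ea0024ce00221d0023420026c20027b2002150001e79001f730020e4002366002096001a140026c6001f7b002312001b2f001fec001b530027f00007d6002738002087001b1200268000081b0020cb00081d0006c6001fe30018c4001fee0022cc001ffb0020a30020a10026b600227d002089002417002135001b38002227001efe0018c8001dc9001d3f001a120027370007b7001e7b001b340019920007b900213d0006df00215d0025cd001dad00081900076b0026c00021b100195f001f150020ec0021610019a20020e0001d8f00276300201e001f0800201a0009440026c5 else nat_lit 0x22fd0008ff001d94002300001fe5001d8600195d0022fb001d8400261400280f0022e7001d8500195c0027a8001f760009000021b9001f78001af60021bd001fe6002786001d930008fe001d950026b000280e00209e001f740022e6001d1400209c0024640020c8001a150027f100227c0027e00024c8001b390021bb00195a000946001a13001fe40007d5001b350007ba0007d70023380021a800081a002097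
def cT_24_28 (j : ℕ) : ℕ := bif Nat.blt j 26 then (cT_24_26 j) else (cT_26_28 j)
def cT_21_28 (j : ℕ) : ℕ := bif Nat.blt j 24 then (cT_21_24 j) else (cT_24_28 j)
def cT_14_28 (j : ℕ) : ℕ := bif Nat.blt j 21 then (cT_14_21 j) else (cT_21_28 j)
def cT_0_28 (j : ℕ) : ℕ := bif Nat.blt j 14 then (cT_0_14 j) else (cT_14_28 j)
def cT (j : ℕ) : ℕ := (cT_0_28 j)
noncomputable def cChunk (h : ℕ) : ℕ := Nat.rec (motive := fun _ => ℕ) (cT 0) (fun n _ => cT (Nat.succ n)) h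
noncomputable def cF (i : ℕ) : ℕ := Nat.land (Nat.shiftRight (cChunk (Nat.shiftRight i 7)) (Nat.mul (Nat.land i 127) 24)) 16777215
theorem cF_lt (i : ℕ) : cF i < 16777216 := land24_lt _
theorem cF_zero : cF 0 = 0 := by decide +kernel
def nDef : ℕ := 10405
def nEv : ℕ := 42126
def nW : ℕ := 233
def N : ℕ := 3510
def ys : List ℕ := [nat_lit 0, nat_lit 1, nat_lit 2, nat_lit 3, nat_lit 4, nat_lit 5, nat_lit 6, nat_lit 7, nat_lit 8, nat_lit 9, nat_lit 10]
end Cfsg.Agent.Lib.ToddCox.Fi22_3510
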